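import Mathlib

/-! # Algebraic lemmas on vanishing of tensors, for local injectivity of tensor products of presheaves -/

universe u
open TensorProduct

namespace Groth.Agent.LD.MS

section target
variable {A : Type*} [CommRing A] {M N : Type*} [AddCommGroup M] [Module A M]
  [AddCommGroup N] [Module A N]

/-- target lemma: a sum of tensors vanishes if it vanishes trivially after adding extra terms `π_j ⊗ 0`. -/
theorem sum_tmul_eq_zero_of_data {k r l : ℕ} (μ : Fin k → M) (ν : Fin k → N) (π : Fin r → M)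
    (ζ : Fin l → N) (α : Fin k → Fin l → A) (β : Fin r → Fin l → A)
    (h1 : ∀ i, ν i = ∑ j, α i j • ζ j) (h2 : ∀ i, ∑ j, β i j • ζ j = 0)
    (h3 : ∀ j, ∑ i, α i j • μ i + ∑ i, β i j • π i = 0) :
    ∑ i, μ i ⊗ₜ[A] ν i = 0 := by
  have hv : VanishesTrivially A (Sum.elim μ π) (Sum.elim ν (fun _ => (0 : N))) := by
    refine ⟨l, Sum.elim α β, ζ, ?_, ?_⟩
    · rintro (i | i)
      · exact h1 i
      · exact (h2 i).symm
    · intro j
      rw [Fintype.sum_sum_type]
      exact h3 j
  have := sum_tmul_eq_zero_of_vanishesTrivially A hv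
  rw [Fintype.sum_sum_type] at this
  simpa using this

end target

section source
variable {A : Type u} [CommRing A] {M M' N : Type u} [AddCommGroup M] [Module A M]
  [AddCommGroup M'] [Module A M'] [AddCommGroup N] [Module A N]

/-- source lemma. -/
theorem exists_data_of_rTensor_eq_zero (f : M →ₗ[A] M') (x : M ⊗[A] N)
    (hx : LinearMap.rTensor N f x = 0) :
    ∃ (k r l : ℕ) (m : Fin k → M) (n : Fin k → N) (q : Fin r → M') (z : Fin l → N)
      (a : Fin k → Fin l → A) (b : Fin r → Fin l → A),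
      x = ∑ i, m i ⊗ₜ[A] n i ∧ (∀ i, n i = ∑ j, a i j • z j) ∧ (∀ i, ∑ j, b i j • z j = 0) ∧
      ∀ j, ∑ i, a i j • f (m i) + ∑ i, b i j • q i = 0 := by
  obtain ⟨k, m, n, rfl⟩ := TensorProduct.exists_sum_tmul_eq x
  set P : Submodule A M' := Submodule.span A (Set.range (f ∘ m)) with hP
  have hPfg : P.FG := Submodule.fg_span (Set.finite_range _)
  have hmem : ∀ i, f (m i) ∈ P := fun i => Submodule.subset_span ⟨i, rfl⟩
  set t : P ⊗[A] N := ∑ i, (⟨f (m i), hmem i⟩ : P) ⊗ₜ[A] n i with ht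
  have h0 : LinearMap.rTensor N P.subtype t = 0 := by
    rw [ht, map_sum]
    simp only [LinearMap.rTensor_tmul, Submodule.subtype_apply]
    simpa [map_sum] using hx
  obtain ⟨Q, hPQ, hQfg, hQ0⟩ := TensorProduct.eq_zero_of_fg_of_subtype_eq_zero hPfg h0
  obtain ⟨s, hs⟩ := hQfg
  -- generators of Q
  obtain ⟨r, q0, hq0⟩ : ∃ (r : ℕ) (q0 : Fin r → M'), Set.range q0 = (s : Set M') := by
    refine ⟨s.card, fun i => (s.equivFin.symm i : M'), ?_⟩
    ext y
    constructor
    · rintro ⟨i, rfl⟩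
      exact (s.equivFin.symm i).2
    · intro hy
      exact ⟨s.equivFin ⟨y, hy⟩, by simp⟩
  have hq0mem : ∀ j, q0 j ∈ Q := fun j => by
    rw [← hs]; exact Submodule.subset_span (by rw [← hq0]; exact ⟨j, rfl⟩)
  have hmemQ : ∀ i, f (m i) ∈ Q := fun i => hPQ (hmem i)
  let mm : Fin k ⊕ Fin r → Q := Sum.elim (fun i => ⟨f (m i), hmemQ i⟩) (fun j => ⟨q0 j, hq0mem j⟩)
  let nn : Fin k ⊕ Fin r → N := Sum.elim n (fun _ => 0)
  have hspan : Submodule.span A (Set.range mm) = ⊤ := by
    apply Submodule.map_injective_of_injective Q.injective_subtype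
    rw [Submodule.map_span, Submodule.map_top, Submodule.range_subtype]
    apply le_antisymm
    · rw [Submodule.span_le]
      rintro _ ⟨_, ⟨i, rfl⟩, rfl⟩
      exact (mm i).2
    · intro y hy
      have hy' : y ∈ Submodule.span A (s : Set M') := by rw [hs]; exact hy
      refine (Submodule.span_le.2 ?_) hy'
      intro y hy
      rw [← hq0] at hy
      obtain ⟨j, rfl⟩ := hy
      exact Submodule.subset_span ⟨mm (Sum.inr j), ⟨Sum.inr j, rfl⟩, rfl⟩
  have hsum : ∑ i, mm i ⊗ₜ[A] nn i = 0 := by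
    rw [Fintype.sum_sum_type]
    simp only [mm, nn, Sum.elim_inl, Sum.elim_inr, tmul_zero, Finset.sum_const_zero, add_zero]
    rw [ht, map_sum] at hQ0
    simp only [LinearMap.rTensor_tmul] at hQ0
    exact hQ0
  obtain ⟨l, a, z, hz, ha⟩ := vanishesTrivially_of_sum_tmul_eq_zero A hspan hsum
  refine ⟨k, r, l, m, n, q0, z, fun i => a (Sum.inl i), fun j => a (Sum.inr j), rfl, ?_, ?_, ?_⟩
  · intro i
    exact hz (Sum.inl i)
  · intro j
    exact (hz (Sum.inr j)).symm
  · intro j
    have := congrArg Q.subtype (ha j)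
    rw [Fintype.sum_sum_type, map_add, map_sum, map_sum, map_zero] at this
    simpa [mm] using this

end source

end Groth.Agent.LD.MS
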