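import Mathlib
import Groth.Agent.Lib.Lead.MS.Van

universe u
open CategoryTheory Limits Opposite MonoidalCategory TensorProduct

namespace Groth.Agent.LD.MS

variable {C : Type u} [SmallCategory C] (J : GrothendieckTopology C)
  {R : Cᵒᵖ ⥤ CommRingCat.{u}}

section res
variable (M : PresheafOfModules.{u} (R ⋙ forget₂ CommRingCat.{u} RingCat.{u}))

/-- restriction as a plain function. -/
noncomputable def res {X Y : Cᵒᵖ} (g : X ⟶ Y) (m : M.obj X) : M.obj Y := M.map g m

lemma res_add {X Y : Cᵒᵖ} (g : X ⟶ Y) (m m' : M.obj X) : res M g (m + m') = res M g m + res M g m' :=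
  map_add (M.map g).hom m m'

lemma res_zero {X Y : Cᵒᵖ} (g : X ⟶ Y) : res M g (0 : M.obj X) = 0 :=
  map_zero (M.map g).hom

lemma res_smul {X Y : Cᵒᵖ} (g : X ⟶ Y) (r : R.obj X) (m : M.obj X) :
    res M g (r • m) = (R.map g r : R.obj Y) • res M g m :=
  M.map_smul g r m

lemma res_sum {X Y : Cᵒᵖ} (g : X ⟶ Y) {ι : Type*} (s : Finset ι) (m : ι → M.obj X) :
    res M g (∑ i ∈ s, m i) = ∑ i ∈ s, res M g (m i) :=
  map_sum (M.map g).hom m s

lemma res_comp {X Y Z : Cᵒᵖ} (g : X ⟶ Y) (h : Y ⟶ Z) (m : M.obj X) :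
    res M (g ≫ h) m = res M h (res M g m) := by
  simp [res]

end res

section tens
variable (M N : PresheafOfModules.{u} (R ⋙ forget₂ CommRingCat.{u} RingCat.{u}))

/-- pure tensors as sections of the presheaf tensor product. -/
def tm {X : Cᵒᵖ} (m : M.obj X) (n : N.obj X) : (M ⊗ N).obj X := m ⊗ₜ[R.obj X] n

lemma res_tm {X Y : Cᵒᵖ} (g : X ⟶ Y) (m : M.obj X) (n : N.obj X) :
    res (M ⊗ N) g (tm M N m n) = tm M N (res M g m) (res N g n) := rfl

/-- sections of the tensor product as elements of the algebraic tensor product. -/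
def toTP {X : Cᵒᵖ} (t : (M ⊗ N).obj X) : (M.obj X) ⊗[R.obj X] (N.obj X) := t

def ofTP {X : Cᵒᵖ} (t : (M.obj X) ⊗[R.obj X] (N.obj X)) : (M ⊗ N).obj X := t

end tens

section sieve

/-- finite intersections of covering sieves are covering. -/
lemma iInf_fin_mem {U : C} : ∀ (r : ℕ) (S : Fin r → Sieve U), (∀ j, S j ∈ J U) → (⨅ j, S j) ∈ J U := by
  intro r
  induction r with
  | zero =>
    intro S _
    have : (⨅ j, S j) = ⊤ := by
      rw [eq_top_iff]
      exact le_iInf (fun j => j.elim0)
    rw [this]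
    exact J.top_mem U
  | succ r ih =>
    intro S hS
    have : (⨅ j, S j) = S 0 ⊓ ⨅ j : Fin r, S j.succ := by
      apply le_antisymm
      · exact le_inf (iInf_le _ 0) (le_iInf fun j => iInf_le _ j.succ)
      · refine le_iInf fun j => ?_
        refine Fin.cases ?_ (fun j => ?_) j
        · exact inf_le_left
        · exact inf_le_right.trans (iInf_le _ j)
    rw [this]
    exact J.intersection_covering (hS 0) (ih _ fun j => hS j.succ)

end sieve

section main
variable {M M' : PresheafOfModules.{u} (R ⋙ forget₂ CommRingCat.{u} RingCat.{u})} (f : M ⟶ M')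
  (N : PresheafOfModules.{u} (R ⋙ forget₂ CommRingCat.{u} RingCat.{u}))

/-- `f` applied sectionwise. -/
noncomputable def ap {X : Cᵒᵖ} (m : M.obj X) : M'.obj X := f.app X m

lemma ap_res {X Y : Cᵒᵖ} (g : X ⟶ Y) (m : M.obj X) : ap f (res M g m) = res M' g (ap f m) :=
  PresheafOfModules.naturality_apply f g m

lemma ap_add {X : Cᵒᵖ} (m m' : M.obj X) : ap f (m + m') = ap f m + ap f m' :=
  map_add (f.app X).hom m m'

lemma ap_zero {X : Cᵒᵖ} : ap f (0 : M.obj X) = 0 := map_zero (f.app X).hom

lemma ap_smul {X : Cᵒᵖ} (r : R.obj X) (m : M.obj X) : ap f (r • m) = r • ap f m :=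
  map_smul (f.app X).hom r m

lemma ap_sum {X : Cᵒᵖ} {ι : Type*} (s : Finset ι) (m : ι → M.obj X) :
    ap f (∑ i ∈ s, m i) = ∑ i ∈ s, ap f (m i) :=
  map_sum (f.app X).hom m s

lemma ap_whiskerRight_eq_rTensor {X : Cᵒᵖ} (t : (M ⊗ N).obj X) :
    toTP M' N (ap (f ▷ N) t) = LinearMap.rTensor (N.obj X) (f.app X).hom (toTP M N t) := rfl

/-- elementwise local injectivity. -/
def LocInj : Prop := ∀ {X : Cᵒᵖ} (m : M.obj X), ap f m = 0 →
  ∃ S ∈ J X.unop, ∀ {V : C} (g : V ⟶ X.unop), S g → res M g.op m = 0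

/-- elementwise local surjectivity. -/
def LocSurj : Prop := ∀ {X : Cᵒᵖ} (q : M'.obj X),
  ∃ S ∈ J X.unop, ∀ {V : C} (g : V ⟶ X.unop), S g → ∃ p : M.obj (op V), ap f p = res M' g.op q

variable {f}

theorem locInj_whiskerRight (hinj : LocInj J f) (hsurj : LocSurj J f) : LocInj J (f ▷ N) := by
  intro X t ht
  have ht' : LinearMap.rTensor (N.obj X) (f.app X).hom (toTP M N t) = 0 := by
    rw [← ap_whiskerRight_eq_rTensor, ht]; rfl
  obtain ⟨k, r, l, m, n, q, z, a, b, hxt, hn, hb, hrel⟩ := exists_data_of_rTensor_eq_zero _ _ ht'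
  -- local lifts of the `q j`
  choose S₁ hS₁ hS₁' using fun j => hsurj (q j)
  set S : Sieve X.unop := ⨅ j, S₁ j with hS
  have hSmem : S ∈ J X.unop := iInf_fin_mem J r S₁ hS₁
  have hSle : ∀ j, S ≤ S₁ j := fun j => iInf_le _ j
  -- for each arrow in `S`, the lifts
  have key : ∀ {V : C} (g : V ⟶ X.unop), S g → ∃ T ∈ J V, ∀ {W : C} (h : W ⟶ V), T h →
      res (M ⊗ N) (h ≫ g).op t = 0 := by
    intro V g hg
    choose p hp using fun j => hS₁' j g (hSle j _ hg)
    -- the elements `w j'`
    let w : Fin l → M.obj (op V) := fun j' =>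
      ∑ i, (R.map g.op (a i j') : R.obj (op V)) • res M g.op (m i) +
        ∑ j, (R.map g.op (b j j') : R.obj (op V)) • p j
    have hw : ∀ j', ap f (w j') = 0 := by
      intro j'
      simp only [w, ap_add, ap_sum, ap_smul, ap_res, hp]
      have h0 : ∑ i, a i j' • ap f (m i) + ∑ j, b j j' • q j = 0 := hrel j'
      have := congrArg (res M' g.op) h0
      rw [res_add, res_sum, res_sum, res_zero] at this
      rw [← this]
      congr 1
      · exact Finset.sum_congr rfl (fun i _ => (res_smul M' g.op (a i j') _).symm)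
      · exact Finset.sum_congr rfl (fun i _ => (res_smul M' g.op (b i j') _).symm)
    choose T hT hT' using fun j' => hinj (w j') (hw j')
    refine ⟨⨅ j', T j', iInf_fin_mem J l T hT, ?_⟩
    intro W h hh
    have hh' : ∀ j', T j' h := fun j' => (iInf_le T j') _ hh
    have ht2 : t = ∑ i, tm M N (m i) (n i) := hxt
    rw [op_comp, res_comp, ht2, res_sum, res_sum]
    simp only [res_tm]
    refine sum_tmul_eq_zero_of_data (A := R.obj (op W))
      (fun i => res M h.op (res M g.op (m i))) (fun i => res N h.op (res N g.op (n i)))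
      (fun j => res M h.op (p j)) (fun j' => res N h.op (res N g.op (z j')))
      (fun i j' => (R.map h.op (R.map g.op (a i j')) : R.obj (op W)))
      (fun j j' => (R.map h.op (R.map g.op (b j j')) : R.obj (op W))) ?_ ?_ ?_
    · intro i
      have h1 : n i = ∑ j', a i j' • z j' := hn i
      have := congrArg (fun y => res N h.op (res N g.op y)) h1
      simp only [res_sum] at this
      rw [this]
      exact Finset.sum_congr rfl (fun j' _ => by rw [res_smul, res_smul])
    · intro j
      have h1 : ∑ j', b j j' • z j' = 0 := hb j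
      have := congrArg (fun y => res N h.op (res N g.op y)) h1
      simp only [res_sum, res_zero] at this
      rw [← this]
      exact Finset.sum_congr rfl (fun j' _ => by rw [res_smul, res_smul])
    · intro j'
      have h1 : res M h.op (w j') = 0 := hT' j' h (hh' j')
      rw [← h1]
      simp only [w, res_add, res_sum, res_smul]
  refine ⟨Sieve.bind S.arrows (fun V g hg => Classical.choose (key g hg)),
    J.bind_covering hSmem (fun V g hg => (Classical.choose_spec (key g hg)).1), ?_⟩
  rintro V _ ⟨Y, h, g, hg, hh, rfl⟩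
  exact (Classical.choose_spec (key g hg)).2 h hh

theorem locSurj_whiskerRight (hsurj : LocSurj J f) : LocSurj J (f ▷ N) := by
  intro X q
  have aux : ∀ y : (M'.obj X) ⊗[R.obj X] (N.obj X),
      ∃ S ∈ J X.unop, ∀ {V : C} (g : V ⟶ X.unop), S g →
        ∃ p : (M ⊗ N).obj (op V), ap (f ▷ N) p = res (M' ⊗ N) g.op (ofTP M' N y) := by
    intro y
    induction y using TensorProduct.induction_on with
    | zero =>
      refine ⟨⊤, J.top_mem _, fun g _ => ⟨0, ?_⟩⟩
      rw [ap_zero]
      exact (res_zero (M' ⊗ N) g.op).symm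
    | tmul m' n =>
      obtain ⟨S, hS, h⟩ := hsurj m'
      refine ⟨S, hS, fun g hg => ?_⟩
      obtain ⟨p, hp⟩ := h g hg
      refine ⟨tm M N p (res N g.op n), ?_⟩
      change tm M' N (ap f p) (res N g.op n) = res (M' ⊗ N) g.op (tm M' N m' n)
      rw [hp, res_tm]
    | add x y hx hy =>
      obtain ⟨S, hS, h⟩ := hx
      obtain ⟨S', hS', h'⟩ := hy
      refine ⟨S ⊓ S', J.intersection_covering hS hS', fun g hg => ?_⟩
      obtain ⟨p, hp⟩ := h g hg.1
      obtain ⟨p', hp'⟩ := h' g hg.2
      refine ⟨p + p', ?_⟩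
      rw [ap_add, hp, hp']
      exact (res_add (M' ⊗ N) g.op (ofTP M' N x) (ofTP M' N y)).symm
  exact aux (toTP M' N q)

end main

section bridge
variable {M M' : PresheafOfModules.{u} (R ⋙ forget₂ CommRingCat.{u} RingCat.{u})} (f : M ⟶ M')

lemma locInj_iff : LocInj J f ↔
    Presheaf.IsLocallyInjective J ((PresheafOfModules.toPresheaf _).map f) := by
  constructor
  · intro h
    refine ⟨fun {X} x y hxy => ?_⟩
    let x' : M.obj X := x
    let y' : M.obj X := y
    have hxy' : ap f x' = ap f y' := hxy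
    have h0 : ap f (x' - y') = 0 := by
      have : ap f (x' - y') = ap f x' - ap f y' := map_sub (f.app X).hom x' y'
      rw [this, hxy', sub_self]
    obtain ⟨S, hS, hS'⟩ := h _ h0
    refine J.superset_covering ?_ hS
    intro V g hg
    have := hS' g hg
    change res M g.op x' = res M g.op y'
    have h2 : res M g.op (x' - y') = res M g.op x' - res M g.op y' :=
      map_sub (M.map g.op).hom x' y'
    rw [h2] at this
    exact sub_eq_zero.1 this
  · intro h X m hm
    have := Presheaf.equalizerSieve_mem J ((PresheafOfModules.toPresheaf _).map f)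
      (X := X) (m : M.obj X) (0 : M.obj X) (by
        change ap f m = ap f 0
        rw [hm, ap_zero])
    refine ⟨_, this, fun g hg => ?_⟩
    have h1 : res M g.op m = res M g.op 0 := hg
    rw [h1, res_zero]

lemma locSurj_iff : LocSurj J f ↔
    Presheaf.IsLocallySurjective J ((PresheafOfModules.toPresheaf _).map f) := by
  constructor
  · intro h
    refine ⟨fun {U} s => ?_⟩
    obtain ⟨S, hS, hS'⟩ := h (X := op U) (s : M'.obj (op U))
    refine J.superset_covering ?_ hS
    intro V g hg
    obtain ⟨p, hp⟩ := hS' g hg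
    exact ⟨p, hp⟩
  · intro h X q
    refine ⟨_, Presheaf.imageSieve_mem J ((PresheafOfModules.toPresheaf _).map f) (U := X)
      (q : M'.obj X), fun g hg => ?_⟩
    obtain ⟨p, hp⟩ := hg
    exact ⟨p, hp⟩

end bridge

section W
variable {M M' N N' : PresheafOfModules.{u} (R ⋙ forget₂ CommRingCat.{u} RingCat.{u})}

variable (R) in
/-- the forgetful functor to abelian presheaves. -/
noncomputable abbrev tP := PresheafOfModules.toPresheaf.{u} (R ⋙ forget₂ CommRingCat.{u} RingCat.{u})

lemma W_iff_loc (f : M ⟶ M') : J.W ((tP R).map f) ↔ LocInj J f ∧ LocSurj J f := by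
  rw [J.W_iff_isLocallyBijective, locInj_iff, locSurj_iff]

theorem W_whiskerRight (f : M ⟶ M') (N : PresheafOfModules.{u} (R ⋙ forget₂ CommRingCat.{u} RingCat.{u}))
    (hf : J.W ((tP R).map f)) : J.W ((tP R).map (f ▷ N)) := by
  rw [W_iff_loc] at hf ⊢
  exact ⟨locInj_whiskerRight J N hf.1 hf.2, locSurj_whiskerRight J N hf.2⟩

theorem W_whiskerLeft (N : PresheafOfModules.{u} (R ⋙ forget₂ CommRingCat.{u} RingCat.{u})) (f : M ⟶ M')
    (hf : J.W ((tP R).map f)) : J.W ((tP R).map (N ◁ f)) := by
  have h : N ◁ f = (β_ N M).hom ≫ (f ▷ N) ≫ (β_ N M').inv := by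
    rw [← Category.assoc, ← BraidedCategory.braiding_naturality_right, Category.assoc,
      Iso.hom_inv_id, Category.comp_id]
  rw [h, Functor.map_comp, Functor.map_comp]
  refine J.W.comp_mem _ _ (MorphismProperty.of_isIso J.W _) (J.W.comp_mem _ _ (W_whiskerRight J f N hf) (MorphismProperty.of_isIso J.W _))

theorem W_tensorHom (f : M ⟶ M') (g : N ⟶ N') (hf : J.W ((tP R).map f)) (hg : J.W ((tP R).map g)) :
    J.W ((tP R).map (f ⊗ₘ g)) := by
  rw [MonoidalCategory.tensorHom_def, Functor.map_comp]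
  exact J.W.comp_mem _ _ (W_whiskerRight J f N hf) (W_whiskerLeft J M' g hg)

end W

end Groth.Agent.LD.MS
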