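import Mathlib
import Groth.Prelude.Def_ModSite
import Groth.Agent.Lib.Lead.MS.TensorLoc

set_option autoImplicit false
universe u
open CategoryTheory Opposite MonoidalCategory

namespace Groth.Agent.LD.MS

variable {C : Type u} [SmallCategory C] {J : GrothendieckTopology C} (O : Sheaf J CommRingCat.{u})

/-- presheaves of modules over the underlying presheaf of rings of `O`. -/
abbrev PMod := PresheafOfModules.{u} (O.obj ⋙ forget₂ CommRingCat.{u} RingCat.{u})

variable {O}

theorem isIso_sheafify_map_iff {M M' : PMod O} (f : M ⟶ M') :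
    IsIso ((ModSite.sheafify O).map f) ↔ J.W ((tP O.obj).map f) := by
  rw [J.W_iff]
  constructor
  · intro h
    exact inferInstanceAs (IsIso ((SheafOfModules.toSheaf _).map ((ModSite.sheafify O).map f)))
  · intro h
    have : IsIso ((SheafOfModules.toSheaf _).map ((ModSite.sheafify O).map f)) := h
    exact isIso_of_reflects_iso _ (SheafOfModules.toSheaf _)

theorem W_unit (M : PMod O) :
    J.W ((tP O.obj).map
      ((PresheafOfModules.sheafificationAdjunction (𝟙 (ModSite.ringSh O).obj)).unit.app M)) := by
  have := J.W_toSheafify M.presheaf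
  exact this

theorem isIso_sheafify_tensorHom {M M' N N' : PMod O} (f : M ⟶ M') (g : N ⟶ N')
    (hf : J.W ((tP O.obj).map f)) (hg : J.W ((tP O.obj).map g)) :
    IsIso ((ModSite.sheafify O).map (MonoidalCategoryStruct.tensorHom (C := PMod O) f g)) :=
  (isIso_sheafify_map_iff _).2 (W_tensorHom J f g hf hg)

end Groth.Agent.LD.MS
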