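import Mathlib
import Groth.Prelude.Def_ModSite
import Groth.Agent.Lib.Lead.MS.Sheafify
import Groth.Agent.Lib.Helper1.SheafOfModulesGrothendieck

set_option autoImplicit false
universe u v₁ v₂ v₃ u₁ u₂ u₃ w w'
open CategoryTheory Opposite MonoidalCategory Limits

namespace Groth.Agent.LD.MS

section general

variable {P : Type u₁} [Category.{v₁} P] {S : Type u₂} [Category.{v₂} S]
  {E : Type u₃} [Category.{v₃} E] {K : Type w} [Category.{w'} K]

/-- If `a ⊣ i` with `i` fully faithful and `G : P ⥤ E` inverts all morphisms inverted by `a`,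
then `i ⋙ G` preserves every colimit that `G` preserves after applying `i`. -/
theorem preservesColimit_comp_of_inverts (a : P ⥤ S) (i : S ⥤ P) (adj : a ⊣ i) [i.Full] [i.Faithful]
    (G : P ⥤ E) (hG : ∀ {X Y : P} (f : X ⟶ Y), IsIso (a.map f) → IsIso (G.map f))
    (D : K ⥤ S) [HasColimit (D ⋙ i)] [PreservesColimit (D ⋙ i) G] :
    PreservesColimit D (i ⋙ G) := by
  refine ⟨fun {c} hc => ⟨?_⟩⟩
  -- comparison map
  let c' := colimit.cocone (D ⋙ i)
  let hc' : IsColimit c' := colimit.isColimit _
  let φ : c' ⟶ i.mapCocone c := hc'.descCoconeMorphism _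
  -- `a.map φ.hom` is an isomorphism
  have : a.IsLeftAdjoint := adj.isLeftAdjoint
  have h1 : IsColimit (a.mapCocone c') := isColimitOfPreserves a hc'
  have h2 : IsColimit ((i ⋙ a).mapCocone c) := by
    have : PreservesColimit D (i ⋙ a) :=
      preservesColimit_of_natIso D (asIso adj.counit).symm
    exact isColimitOfPreserves (i ⋙ a) hc
  have h3 : IsIso (a.map φ.hom) := by
    let ψ : a.mapCocone c' ⟶ (i ⋙ a).mapCocone c := (Cocones.functoriality _ a).map φ
    have : IsIso ψ := IsColimit.hom_isIso h1 h2 ψ
    exact inferInstanceAs (IsIso ((Cocones.forget _).map ψ))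
  have h4 : IsIso (G.map φ.hom) := hG _ h3
  have h5 : IsColimit (G.mapCocone c') := isColimitOfPreserves G hc'
  let ψ' : G.mapCocone c' ⟶ (i ⋙ G).mapCocone c := (Cocones.functoriality _ G).map φ
  have : IsIso ψ'.hom := h4
  have : IsIso ψ' := Cocone.cocone_iso_of_hom_iso ψ'
  exact IsColimit.ofIsoColimit h5 (asIso ψ')

end general


section modsite

variable {C : Type u} [SmallCategory C] {J : GrothendieckTopology C} (O : Sheaf J CommRingCat.{u})

/-- the inclusion of sheaves of modules in presheaves of modules, right adjoint to sheafification. -/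
noncomputable abbrev incl : ModSite.Mod O ⥤ PMod O :=
  SheafOfModules.forget (ModSite.ringSh O) ⋙ PresheafOfModules.restrictScalars (𝟙 (ModSite.ringSh O).obj)

/-- the sheafification adjunction. -/
noncomputable abbrev sadj : ModSite.sheafify O ⊣ incl O :=
  PresheafOfModules.sheafificationAdjunction (𝟙 (ModSite.ringSh O).obj)

variable {O}

instance : (incl O).Full :=
  inferInstanceAs ((SheafOfModules.forget (ModSite.ringSh O) ⋙
    PresheafOfModules.restrictScalars (𝟙 (ModSite.ringSh O).obj)).Full)

instance : (incl O).Faithful :=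
  inferInstanceAs ((SheafOfModules.forget (ModSite.ringSh O) ⋙
    PresheafOfModules.restrictScalars (𝟙 (ModSite.ringSh O).obj)).Faithful)

/-- `- ⊗ F` on sheaves of modules is `incl ⋙ (- ⊗ₚ F) ⋙ sheafify`. -/
noncomputable def flipIso (F : ModSite.Mod O) :
    (ModSite.tensorBi O).flip.obj F ≅
      incl O ⋙ (tensorRight ((incl O).obj F) ⋙ ModSite.sheafify O) :=
  NatIso.ofComponents (fun _ => Iso.refl _) (by
    intro X Y f
    simp only [Iso.refl_hom, Category.comp_id, Category.id_comp]
    rfl)

/-- `F ⊗ -` on sheaves of modules is `incl ⋙ (F ⊗ₚ -) ⋙ sheafify`. -/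
noncomputable def objIso (F : ModSite.Mod O) :
    (ModSite.tensorBi O).obj F ≅
      incl O ⋙ (tensorLeft ((incl O).obj F) ⋙ ModSite.sheafify O) :=
  NatIso.ofComponents (fun _ => Iso.refl _) (by
    intro X Y f
    simp only [Iso.refl_hom, Category.comp_id, Category.id_comp]
    rfl)


instance (F : ModSite.Mod O) : PreservesColimitsOfSize.{u, u} ((ModSite.tensorBi O).flip.obj F) := by
  refine ⟨fun {K} _ => ⟨fun {D} => ?_⟩⟩
  have h1 : PreservesColimit (D ⋙ incl O) (tensorRight ((incl O).obj F)) := inferInstance
  have h2 : PreservesColimit ((D ⋙ incl O) ⋙ tensorRight ((incl O).obj F)) (ModSite.sheafify O) := by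
    have := (sadj O).leftAdjoint_preservesColimits.{u, u}
    exact this.preservesColimitsOfShape.preservesColimit
  have h3 : PreservesColimit (D ⋙ incl O) (tensorRight ((incl O).obj F) ⋙ ModSite.sheafify O) :=
    comp_preservesColimit _ _
  have : PreservesColimit D (incl O ⋙ (tensorRight ((incl O).obj F) ⋙ ModSite.sheafify O)) :=
    @preservesColimit_comp_of_inverts (PMod O) inferInstance (ModSite.Mod O) inferInstance _ _ _ _
      (ModSite.sheafify O) (incl O) (sadj O) inferInstance inferInstance
      (tensorRight ((incl O).obj F) ⋙ ModSite.sheafify O)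
      (fun f hf => by
        rw [isIso_sheafify_map_iff] at hf
        exact (isIso_sheafify_map_iff (f ▷ (incl O).obj F)).2 (W_whiskerRight J f _ hf)) D
      inferInstance h3
  exact preservesColimit_of_natIso D (flipIso F).symm

instance (F : ModSite.Mod O) : PreservesColimitsOfSize.{u, u} ((ModSite.tensorBi O).obj F) := by
  refine ⟨fun {K} _ => ⟨fun {D} => ?_⟩⟩
  have h1 : PreservesColimit (D ⋙ incl O) (tensorLeft ((incl O).obj F)) := inferInstance
  have h2 : PreservesColimit ((D ⋙ incl O) ⋙ tensorLeft ((incl O).obj F)) (ModSite.sheafify O) := by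
    have := (sadj O).leftAdjoint_preservesColimits.{u, u}
    exact this.preservesColimitsOfShape.preservesColimit
  have h3 : PreservesColimit (D ⋙ incl O) (tensorLeft ((incl O).obj F) ⋙ ModSite.sheafify O) :=
    comp_preservesColimit _ _
  have : PreservesColimit D (incl O ⋙ (tensorLeft ((incl O).obj F) ⋙ ModSite.sheafify O)) :=
    @preservesColimit_comp_of_inverts (PMod O) inferInstance (ModSite.Mod O) inferInstance _ _ _ _
      (ModSite.sheafify O) (incl O) (sadj O) inferInstance inferInstance
      (tensorLeft ((incl O).obj F) ⋙ ModSite.sheafify O)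
      (fun f hf => by
        rw [isIso_sheafify_map_iff] at hf
        exact (isIso_sheafify_map_iff ((incl O).obj F ◁ f)).2 (W_whiskerLeft J _ f hf)) D
      inferInstance h3
  exact preservesColimit_of_natIso D (objIso F).symm

/-- any colimit-preserving functor out of `Mod O` is a left adjoint (SAFT). -/
theorem isLeftAdjoint_of_preservesColimits {E : Type u₃} [Category.{u} E] (G : ModSite.Mod O ⥤ E)
    [PreservesColimitsOfSize.{u, u} G] : G.IsLeftAdjoint := by
  have := Groth.Agent.H1.sheafOfModules_isGrothendieckAbelian J (ModSite.ringSh O)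
  have : WellPowered.{u} (SheafOfModules.{u} (ModSite.ringSh O)) := IsGrothendieckAbelian.wellPowered _
  have : WellPowered.{u} (SheafOfModules.{u} (ModSite.ringSh O))ᵒᵖ := Abelian.wellPowered_opposite
  exact isLeftAdjoint_of_preservesColimits_of_isSeparating
    (Groth.Agent.H1.sheafOfModules_isSeparating J (ModSite.ringSh O)) G

theorem hasSheafHom (F : ModSite.Mod O) : ModSite.HasSheafHom F :=
  isLeftAdjoint_of_preservesColimits _

theorem isLeftAdjoint_tensorBi_obj (F : ModSite.Mod O) : ((ModSite.tensorBi O).obj F).IsLeftAdjoint :=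
  isLeftAdjoint_of_preservesColimits _

end modsite

end Groth.Agent.LD.MS
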