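import Mathlib
import Groth.Prelude.Def_ModSite
import Groth.Agent.Lib.Lead.MS.TensorColim

set_option autoImplicit false
universe u v₁ v₂ v₃ u₁ u₂ u₃ w w'
open CategoryTheory Opposite MonoidalCategory Limits

namespace Groth.Agent.LD.MS

section presheaf

variable {C : Type u} [SmallCategory C] (R : Cᵒᵖ ⥤ CommRingCat.{u})

/-- A sectionwise flat presheaf of modules is flat: `- ⊗ₚ F` preserves finite limits. -/
theorem preservesFiniteLimits_tensorRight_of_flat
    (F : PresheafOfModules.{u} (R ⋙ forget₂ CommRingCat.{u} RingCat.{u}))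
    (hF : ∀ X : Cᵒᵖ, Module.Flat (R.obj X) (F.obj X)) :
    PreservesFiniteLimits (tensorRight F) := by
  refine ⟨fun K _ _ => ⟨fun {D} => ⟨fun {c} hc => ⟨?_⟩⟩⟩⟩
  refine PresheafOfModules.evaluationJointlyReflectsLimits _ _ (fun X => ?_)
  have := hF X
  exact isLimitOfPreserves (tensorRight (show ModuleCat (R.obj X) from F.obj X))
    (isLimitOfPreserves (PresheafOfModules.evaluation _ X) hc)

theorem preservesFiniteLimits_tensorLeft_of_flat
    (F : PresheafOfModules.{u} (R ⋙ forget₂ CommRingCat.{u} RingCat.{u}))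
    (hF : ∀ X : Cᵒᵖ, Module.Flat (R.obj X) (F.obj X)) :
    PreservesFiniteLimits (tensorLeft F) := by
  refine ⟨fun K _ _ => ⟨fun {D} => ⟨fun {c} hc => ⟨?_⟩⟩⟩⟩
  refine PresheafOfModules.evaluationJointlyReflectsLimits _ _ (fun X => ?_)
  have := hF X
  exact isLimitOfPreserves (tensorLeft (show ModuleCat (R.obj X) from F.obj X))
    (isLimitOfPreserves (PresheafOfModules.evaluation _ X) hc)

end presheaf


section modsite

variable {C : Type u} [SmallCategory C] {J : GrothendieckTopology C} {O : Sheaf J CommRingCat.{u}}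

variable (O) in
/-- sheafification, with domain the monoidal category of presheaves of modules. -/
noncomputable abbrev shf : PMod O ⥤ ModSite.Mod O := ModSite.sheafify O

variable (O) in
/-- the sheafification adjunction. -/
noncomputable abbrev sadj' : shf O ⊣ incl O := sadj O

theorem isIso_sheafify_whiskerLeft_unit (G P : PMod O) :
    IsIso ((shf O).map (G ◁ (sadj' O).unit.app P)) :=
  (isIso_sheafify_map_iff (G ◁ (sadj' O).unit.app P)).2 (W_whiskerLeft J G _ (W_unit P))

theorem isIso_sheafify_whiskerRight_unit (G P : PMod O) :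
    IsIso ((shf O).map ((sadj' O).unit.app P ▷ G)) :=
  (isIso_sheafify_map_iff ((sadj' O).unit.app P ▷ G)).2 (W_whiskerRight J _ G (W_unit P))

/-- for a presheaf of modules `P`, `- ⊗ aP ≅ incl ⋙ (- ⊗ₚ P) ⋙ sheafify`. -/
noncomputable def flipSheafifyIso (P : PMod O) :
    incl O ⋙ (tensorRight P ⋙ shf O) ≅
      (ModSite.tensorBi O).flip.obj ((shf O).obj P) :=
  NatIso.ofComponents
    (fun G => @asIso _ _ _ _ ((shf O).map ((incl O).obj G ◁ (sadj' O).unit.app P))
      (isIso_sheafify_whiskerLeft_unit _ P))
    (by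
      intro G G' f
      change (shf O).map ((incl O).map f ▷ P) ≫
          (shf O).map ((incl O).obj G' ◁ (sadj' O).unit.app P) =
        (shf O).map ((incl O).obj G ◁ (sadj' O).unit.app P) ≫
          (shf O).map ((incl O).map f ▷ _)
      rw [← Functor.map_comp, ← Functor.map_comp, whisker_exchange]
      rfl)

/-- for a presheaf of modules `P`, `aP ⊗ - ≅ incl ⋙ (P ⊗ₚ -) ⋙ sheafify`. -/
noncomputable def objSheafifyIso (P : PMod O) :
    incl O ⋙ (tensorLeft P ⋙ shf O) ≅
      (ModSite.tensorBi O).obj ((shf O).obj P) :=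
  NatIso.ofComponents
    (fun G => @asIso _ _ _ _ ((shf O).map ((sadj' O).unit.app P ▷ (incl O).obj G))
      (isIso_sheafify_whiskerRight_unit _ P))
    (by
      intro G G' f
      change (shf O).map (P ◁ (incl O).map f) ≫
          (shf O).map ((sadj' O).unit.app P ▷ (incl O).obj G') =
        (shf O).map ((sadj' O).unit.app P ▷ (incl O).obj G) ≫
          (shf O).map (_ ◁ (incl O).map f)
      rw [← Functor.map_comp, ← Functor.map_comp, ← whisker_exchange]
      rfl)

theorem preservesFiniteColimits_flip (F : ModSite.Mod O) :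
    PreservesFiniteColimits ((ModSite.tensorBi O).flip.obj F) :=
  PreservesColimitsOfSize.preservesFiniteColimits _

theorem preservesFiniteColimits_obj (F : ModSite.Mod O) :
    PreservesFiniteColimits ((ModSite.tensorBi O).obj F) :=
  PreservesColimitsOfSize.preservesFiniteColimits _

theorem isFlat_iff (F : ModSite.Mod O) :
    ModSite.IsFlat F ↔ PreservesFiniteLimits ((ModSite.tensorBi O).flip.obj F) :=
  ⟨fun h => h.1, fun h => ⟨h, preservesFiniteColimits_flip F⟩⟩

theorem preservesFiniteLimits_incl : PreservesFiniteLimits (incl O) := by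
  have := (sadj' O).rightAdjoint_preservesLimits.{u, u}
  exact PreservesLimitsOfSize.preservesFiniteLimits.{u, u} _

theorem preservesFiniteLimits_sheafify :
    PreservesFiniteLimits (shf O) :=
  inferInstanceAs (PreservesFiniteLimits
    (PresheafOfModules.sheafification.{u} (𝟙 (ModSite.ringSh O).obj)))

/-- The sheafification of a sectionwise flat presheaf of modules is a flat sheaf of modules. -/
theorem isFlat_sheafify_of_flat (P : PMod O) (hP : ∀ X : Cᵒᵖ, Module.Flat (O.obj.obj X) (P.obj X)) :
    ModSite.IsFlat ((shf O).obj P) := by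
  rw [isFlat_iff]
  have h1 := preservesFiniteLimits_incl (O := O)
  have h2 := preservesFiniteLimits_tensorRight_of_flat O.obj P hP
  have h3 := preservesFiniteLimits_sheafify (O := O)
  have h4 : PreservesFiniteLimits (tensorRight P ⋙ shf O) :=
    comp_preservesFiniteLimits _ _
  have h5 : PreservesFiniteLimits (incl O ⋙ (tensorRight P ⋙ shf O)) :=
    comp_preservesFiniteLimits _ _
  exact preservesFiniteLimits_of_natIso (flipSheafifyIso P)


/-- free presheaves of modules are sectionwise flat. -/
theorem flat_free_obj (T : Cᵒᵖ ⥤ Type u) (X : Cᵒᵖ) :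
    Module.Flat (O.obj.obj X)
      (((PresheafOfModules.free (O.obj ⋙ forget₂ CommRingCat.{u} RingCat.{u})).obj T).obj X) := by
  change Module.Flat (O.obj.obj X) (T.obj X →₀ O.obj.obj X)
  infer_instance

theorem epi_free_counit (G : PMod O) :
    Epi ((PresheafOfModules.freeAdjunction (O.obj ⋙ forget₂ CommRingCat.{u} RingCat.{u})).counit.app G) := by
  apply PresheafOfModules.epi_of_surjective
  intro X g
  refine ⟨ModuleCat.freeMk (show (G.presheaf ⋙ forget _).obj X from g), ?_⟩
  change (ModuleCat.freeDesc _) (ModuleCat.freeMk _) = g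
  rw [ModuleCat.freeDesc_apply]
  rfl

/-- every sheaf of modules is a quotient of a flat one. -/
theorem exists_flat_epi (F : ModSite.Mod O) :
    ∃ (G : ModSite.Mod O) (π : G ⟶ F), ModSite.IsFlat G ∧ Epi π := by
  let R := O.obj ⋙ forget₂ CommRingCat.{u} RingCat.{u}
  let T : Cᵒᵖ ⥤ Type u := (PresheafOfModules.toPresheaf R ⋙
    (Functor.whiskeringRight _ _ _).obj (forget Ab)).obj ((incl O).obj F)
  have h1 : Epi ((PresheafOfModules.freeAdjunction R).counit.app ((incl O).obj F)) :=
    epi_free_counit _
  have : (shf O).PreservesEpimorphisms := (shf O).preservesEpimorphisms_of_adjunction (sadj' O)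
  have h2 : Epi ((shf O).map ((PresheafOfModules.freeAdjunction R).counit.app ((incl O).obj F))) :=
    (shf O).map_epi _
  have h3 : IsIso ((sadj' O).counit.app F) := inferInstance
  exact ⟨(shf O).obj ((PresheafOfModules.free R).obj T),
    (shf O).map ((PresheafOfModules.freeAdjunction R).counit.app ((incl O).obj F)) ≫
      (sadj' O).counit.app F,
    isFlat_sheafify_of_flat _ (flat_free_obj T), epi_comp _ _⟩

end modsite

end Groth.Agent.LD.MS
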