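import Mathlib

set_option autoImplicit false
universe v u
open CategoryTheory Limits

namespace Groth.Agent.LD.MS

variable {C : Type u} [Category.{v} C] [Abelian C]

/-- A consequence of the snake lemma: given a map of exact rows `L₁ ⟶ L₂` (with `L₁.g` epi,
`L₂.f` mono) with termwise cokernel `L₃`, if the third vertical map is mono then `L₃.f` is mono. -/
theorem mono_of_snake (L₁ L₂ L₃ : ShortComplex C) (v₁₂ : L₁ ⟶ L₂) (v₂₃ : L₂ ⟶ L₃)
    (w : v₁₂ ≫ v₂₃ = 0)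
    (h1 : L₁.Exact) [Epi L₁.g] (h2 : L₂.Exact) [Mono L₂.f]
    (e1 : (ShortComplex.mk v₁₂.τ₁ v₂₃.τ₁
      (by rw [← ShortComplex.comp_τ₁, w, ShortComplex.zero_τ₁])).Exact) [Epi v₂₃.τ₁]
    (e2 : (ShortComplex.mk v₁₂.τ₂ v₂₃.τ₂
      (by rw [← ShortComplex.comp_τ₂, w, ShortComplex.zero_τ₂])).Exact) [Epi v₂₃.τ₂]
    (e3 : (ShortComplex.mk v₁₂.τ₃ v₂₃.τ₃
      (by rw [← ShortComplex.comp_τ₃, w, ShortComplex.zero_τ₃])).Exact) [Epi v₂₃.τ₃]
    [Mono v₁₂.τ₃] : Mono L₃.f := by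
  let S : ShortComplex.SnakeInput C :=
    { L₀ := kernel v₁₂
      L₁ := L₁
      L₂ := L₂
      L₃ := L₃
      v₀₁ := kernel.ι v₁₂
      v₁₂ := v₁₂
      v₂₃ := v₂₃
      w₀₂ := kernel.condition _
      w₁₃ := w
      h₀ := kernelIsKernel v₁₂
      h₃ := ShortComplex.isColimitOfIsColimitπ _
        ((isColimitMapCoconeCoforkEquiv' ShortComplex.π₁ w).symm
          (e1.gIsCokernel (S := ShortComplex.mk v₁₂.τ₁ v₂₃.τ₁ _)))
        ((isColimitMapCoconeCoforkEquiv' ShortComplex.π₂ w).symm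
          (e2.gIsCokernel (S := ShortComplex.mk v₁₂.τ₂ v₂₃.τ₂ _)))
        ((isColimitMapCoconeCoforkEquiv' ShortComplex.π₃ w).symm
          (e3.gIsCokernel (S := ShortComplex.mk v₁₂.τ₃ v₂₃.τ₃ _)))
      L₁_exact := h1
      epi_L₁_g := inferInstance
      L₂_exact := h2
      mono_L₂_f := inferInstance }
  have hz : S.v₀₁.τ₃ = 0 := by
    have : Mono S.v₁₂.τ₃ := ‹Mono v₁₂.τ₃›
    rw [← cancel_mono S.v₁₂.τ₃, S.w₀₂_τ₃, zero_comp]
  have hZ : IsZero S.L₀.X₃ := by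
    have : Mono S.v₀₁.τ₃ := S.mono_v₀₁_τ₃
    rw [IsZero.iff_id_eq_zero, ← cancel_mono S.v₀₁.τ₃, hz, comp_zero, comp_zero]
  have hE := S.L₂'_exact
  have : Mono S.L₂'.g := hE.mono_g (hZ.eq_of_src _ _)
  exact this

end Groth.Agent.LD.MS
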