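import Mathlib
import Groth.Agent.Lib.Lead.MS.Snake

set_option autoImplicit false
universe v u
open CategoryTheory Limits

namespace Groth.Agent.LD.MS

section bifunctor

variable {A : Type u} [Category.{v} A] [Abelian A]

/-- a functor between abelian categories which preserves finite colimits is additive. -/
theorem additive_of_preservesFiniteColimits {B : Type*} [Category B] [Abelian B] (F : A ⥤ B)
    [PreservesFiniteColimits F] : F.Additive := by
  have : PreservesBinaryBiproducts F := preservesBinaryBiproducts_of_preservesBinaryCoproducts _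
  exact Functor.additive_of_preservesBinaryBiproducts _

/-- right exact functors preserve right exact sequences. -/
theorem exact_map_of_rightExact {B : Type*} [Category B] [Abelian B] (F : A ⥤ B)
    [PreservesFiniteColimits F] [F.PreservesZeroMorphisms] (S : ShortComplex A) (hS : S.Exact)
    [Epi S.g] : (S.map F).Exact ∧ Epi (F.map S.g) :=
  ⟨hS.map_of_epi_of_preservesCokernel F inferInstance inferInstance, inferInstance⟩

/-- right exact + preserves monos ⟹ preserves finite limits. -/
theorem preservesFiniteLimits_of_rightExact_of_mono {B : Type*} [Category B] [Abelian B] (F : A ⥤ B)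
    [PreservesFiniteColimits F] [F.PreservesMonomorphisms] : PreservesFiniteLimits F := by
  have := additive_of_preservesFiniteColimits F
  have : F.PreservesHomology := F.preservesHomology_of_preservesMonos_and_cokernels
  exact F.preservesFiniteLimits_of_preservesHomology

variable (T : A ⥤ A ⥤ A)

/-- Key lemma on flatness: if `0 → X₁ → X₂ → X₃ → 0` is exact, `X₃ ⊗ -` preserves monos,
and `G` is a quotient of some `P` with `- ⊗ P` preserving monos, then `X₁ ⊗ G → X₂ ⊗ G` is mono. -/
theorem mono_map_flip_of_flat (hl : ∀ X, PreservesFiniteColimits (T.obj X))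
    (hr : ∀ X, PreservesFiniteColimits (T.flip.obj X))
    (S : ShortComplex A) (hS : S.ShortExact) (G : A)
    (h3 : (T.obj S.X₃).PreservesMonomorphisms)
    (P : A) (p : P ⟶ G) [Epi p] (hP : (T.flip.obj P).PreservesMonomorphisms) :
    Mono ((T.flip.obj G).map S.f) := by
  have hadd_l : ∀ X, (T.obj X).Additive := fun X => additive_of_preservesFiniteColimits _
  have hadd_r : ∀ X, (T.flip.obj X).Additive := fun X => additive_of_preservesFiniteColimits _
  have := hS.mono_f
  have := hS.epi_g
  let K := kernel p
  let k : K ⟶ P := kernel.ι p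
  let SK : ShortComplex A := ShortComplex.mk k p (kernel.condition p)
  have hSK : SK.Exact := ShortComplex.exact_of_f_is_kernel _ (kernelIsKernel p)
  have : Epi SK.g := ‹Epi p›
  let L₁ := S.map (T.flip.obj K)
  let L₂ := S.map (T.flip.obj P)
  let L₃ := S.map (T.flip.obj G)
  let v₁₂ : L₁ ⟶ L₂ := S.mapNatTrans (T.flip.map k)
  let v₂₃ : L₂ ⟶ L₃ := S.mapNatTrans (T.flip.map p)
  have w : v₁₂ ≫ v₂₃ = 0 := by
    ext
    · change (T.obj S.X₁).map k ≫ (T.obj S.X₁).map p = 0
      rw [← Functor.map_comp, kernel.condition, Functor.map_zero]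
    · change (T.obj S.X₂).map k ≫ (T.obj S.X₂).map p = 0
      rw [← Functor.map_comp, kernel.condition, Functor.map_zero]
    · change (T.obj S.X₃).map k ≫ (T.obj S.X₃).map p = 0
      rw [← Functor.map_comp, kernel.condition, Functor.map_zero]
  have h1 := exact_map_of_rightExact (T.flip.obj K) S hS.exact
  have : Epi L₁.g := h1.2
  have h2 : L₂.Exact := by
    have := preservesFiniteLimits_of_rightExact_of_mono (T.flip.obj P)
    exact (hS.map_of_exact (T.flip.obj P)).exact
  have : Mono L₂.f := (T.flip.obj P).map_mono S.f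
  have e1 := exact_map_of_rightExact (T.obj S.X₁) SK hSK
  have e2 := exact_map_of_rightExact (T.obj S.X₂) SK hSK
  have e3 := exact_map_of_rightExact (T.obj S.X₃) SK hSK
  have : Epi v₂₃.τ₁ := e1.2
  have : Epi v₂₃.τ₂ := e2.2
  have : Epi v₂₃.τ₃ := e3.2
  have : Mono v₁₂.τ₃ := (T.obj S.X₃).map_mono k
  exact mono_of_snake L₁ L₂ L₃ v₁₂ v₂₃ w h1.1 h2 e1.1 e2.1 e3.1

end bifunctor

end Groth.Agent.LD.MS
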