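import Mathlib
import Groth.Prelude.Def_ModSite
import Groth.Agent.Lib.Lead.MS.Flat
import Groth.Agent.Lib.Lead.MS.FlatSES

set_option autoImplicit false
universe u
open CategoryTheory Opposite MonoidalCategory Limits

namespace Groth.Agent.LD.MS

variable {C : Type u} [SmallCategory C] {J : GrothendieckTopology C} {O : Sheaf J CommRingCat.{u}}

/-- symmetry of the tensor product of sheaves of modules. -/
noncomputable def braidIso (F : ModSite.Mod O) :
    (ModSite.tensorBi O).obj F ≅ (ModSite.tensorBi O).flip.obj F :=
  NatIso.ofComponents (fun G => (shf O).mapIso (β_ ((incl O).obj F) ((incl O).obj G)))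
    (by
      intro G G' f
      change (shf O).map ((incl O).obj F ◁ (incl O).map f) ≫
          (shf O).map (β_ ((incl O).obj F) ((incl O).obj G')).hom =
        (shf O).map (β_ ((incl O).obj F) ((incl O).obj G)).hom ≫
          (shf O).map ((incl O).map f ▷ (incl O).obj F)
      rw [← Functor.map_comp, ← Functor.map_comp, BraidedCategory.braiding_naturality_right])

instance (F : ModSite.Mod O) : PreservesFiniteColimits ((ModSite.tensorBi O).flip.obj F) :=
  preservesFiniteColimits_flip F

instance (F : ModSite.Mod O) : PreservesFiniteColimits ((ModSite.tensorBi O).obj F) :=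
  preservesFiniteColimits_obj F

instance (F : ModSite.Mod O) : ((ModSite.tensorBi O).flip.obj F).Additive :=
  additive_of_preservesFiniteColimits _

instance (F : ModSite.Mod O) : ((ModSite.tensorBi O).obj F).Additive :=
  additive_of_preservesFiniteColimits _

theorem isFlat_iff_preservesMono (F : ModSite.Mod O) :
    ModSite.IsFlat F ↔ ((ModSite.tensorBi O).flip.obj F).PreservesMonomorphisms := by
  rw [isFlat_iff]
  constructor
  · intro h
    infer_instance
  · intro h
    exact preservesFiniteLimits_of_rightExact_of_mono _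

theorem preservesMono_flip_of_isFlat {F : ModSite.Mod O} (h : ModSite.IsFlat F) :
    ((ModSite.tensorBi O).flip.obj F).PreservesMonomorphisms :=
  (isFlat_iff_preservesMono F).1 h

theorem preservesMono_obj_of_isFlat {F : ModSite.Mod O} (h : ModSite.IsFlat F) :
    ((ModSite.tensorBi O).obj F).PreservesMonomorphisms := by
  have := preservesMono_flip_of_isFlat h
  exact Functor.preservesMonomorphisms.of_iso (braidIso F).symm

/-- tensoring a short exact sequence with flat cokernel by any module stays short exact. -/
theorem shortExact_map_flip_of_flat (S : ShortComplex (ModSite.Mod O)) (hS : S.ShortExact)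
    (hF : ModSite.IsFlat S.X₃) (G : ModSite.Mod O) :
    (S.map ((ModSite.tensorBi O).flip.obj G)).ShortExact := by
  obtain ⟨P, p, hP, hp⟩ := exists_flat_epi G
  have := hS.epi_g
  have h1 := exact_map_of_rightExact ((ModSite.tensorBi O).flip.obj G) S hS.exact
  have h2 : Mono ((ModSite.tensorBi O).flip.obj G |>.map S.f) :=
    mono_map_flip_of_flat (ModSite.tensorBi O) (fun X => inferInstance) (fun X => inferInstance)
      S hS G (preservesMono_obj_of_isFlat hF) P p (preservesMono_flip_of_isFlat hP)
  exact { exact := h1.1, mono_f := h2, epi_g := h1.2 }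


/-- `G ⊗ S` is short exact when `S` is short exact with flat cokernel. -/
theorem shortExact_map_obj_of_flat (S : ShortComplex (ModSite.Mod O)) (hS : S.ShortExact)
    (hF : ModSite.IsFlat S.X₃) (G : ModSite.Mod O) :
    (S.map ((ModSite.tensorBi O).obj G)).ShortExact :=
  ShortComplex.shortExact_of_iso (S.mapNatIso (braidIso G)).symm
    (shortExact_map_flip_of_flat S hS hF G)

theorem isFlat_X₂ (S : ShortComplex (ModSite.Mod O)) (hS : S.ShortExact)
    (h₁ : ModSite.IsFlat S.X₁) (h₃ : ModSite.IsFlat S.X₃) : ModSite.IsFlat S.X₂ := by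
  rw [isFlat_iff_preservesMono]
  constructor
  intro G' G m hm
  let φ : S.map ((ModSite.tensorBi O).obj G') ⟶ S.map ((ModSite.tensorBi O).obj G) :=
    S.mapNatTrans ((ModSite.tensorBi O).map m)
  have e1 := shortExact_map_obj_of_flat S hS h₃ G'
  have e2 := shortExact_map_obj_of_flat S hS h₃ G
  have := e1.mono_f
  have := e2.mono_f
  have := preservesMono_flip_of_isFlat h₁
  have := preservesMono_flip_of_isFlat h₃
  have : Mono φ.τ₁ := ((ModSite.tensorBi O).flip.obj S.X₁).map_mono m
  have : Mono φ.τ₃ := ((ModSite.tensorBi O).flip.obj S.X₃).map_mono m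
  exact ShortComplex.mono_τ₂_of_exact_of_mono φ e1.exact

theorem isFlat_X₁ (S : ShortComplex (ModSite.Mod O)) (hS : S.ShortExact)
    (h₂ : ModSite.IsFlat S.X₂) (h₃ : ModSite.IsFlat S.X₃) : ModSite.IsFlat S.X₁ := by
  rw [isFlat_iff_preservesMono]
  constructor
  intro G' G m hm
  let φ : S.map ((ModSite.tensorBi O).obj G') ⟶ S.map ((ModSite.tensorBi O).obj G) :=
    S.mapNatTrans ((ModSite.tensorBi O).map m)
  have e1 := shortExact_map_obj_of_flat S hS h₃ G'
  have e2 := shortExact_map_obj_of_flat S hS h₃ G
  have := e1.mono_f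
  have := e2.mono_f
  have := preservesMono_flip_of_isFlat h₂
  have : Mono φ.τ₂ := ((ModSite.tensorBi O).flip.obj S.X₂).map_mono m
  have h : Mono (φ.τ₁ ≫ (S.map ((ModSite.tensorBi O).obj G)).f) := by
    rw [φ.comm₁₂]
    exact mono_comp _ _
  exact mono_of_mono φ.τ₁ (S.map ((ModSite.tensorBi O).obj G)).f

end Groth.Agent.LD.MS
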