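import Mathlib
import Groth.Prelude.Def_ModSite
import Groth.Agent.Lib.Lead.MS.Flat2

set_option autoImplicit false
universe u
open CategoryTheory Opposite MonoidalCategory Limits

namespace Groth.Agent.LD.MS

variable {C : Type u} [SmallCategory C] {J : GrothendieckTopology C} {O : Sheaf J CommRingCat.{u}}

/-- colimits of flat modules over a shape with exact colimits are flat. -/
theorem isFlat_of_isColimit {K : Type u} [SmallCategory K]
    [HasExactColimitsOfShape K (ModSite.Mod O)]
    (D : K ⥤ ModSite.Mod O) (hD : ∀ k, ModSite.IsFlat (D.obj k)) (c : Cocone D) (hc : IsColimit c) :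
    ModSite.IsFlat c.pt := by
  rw [isFlat_iff_preservesMono]
  constructor
  intro G' G m hm
  have h1 : ∀ k, Mono ((Functor.whiskerLeft D ((ModSite.tensorBi O).map m)).app k) := fun k => by
    have := preservesMono_flip_of_isFlat (hD k)
    exact ((ModSite.tensorBi O).flip.obj (D.obj k)).map_mono m
  have : Mono (Functor.whiskerLeft D ((ModSite.tensorBi O).map m)) := NatTrans.mono_of_mono_app _
  exact colim.map_mono' (Functor.whiskerLeft D ((ModSite.tensorBi O).map m))
    (isColimitOfPreserves ((ModSite.tensorBi O).obj G') hc)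
    (isColimitOfPreserves ((ModSite.tensorBi O).obj G) hc) _
    (fun k => ((ModSite.tensorBi O).map m).naturality (c.ι.app k))

theorem isFlat_of_isFiltered {K : Type u} [SmallCategory K] [IsFiltered K]
    (D : K ⥤ ModSite.Mod O) (hD : ∀ k, ModSite.IsFlat (D.obj k)) (c : Cocone D) (hc : IsColimit c) :
    ModSite.IsFlat c.pt := by
  have := Groth.Agent.H1.sheafOfModules_hasExactColimitsOfShape J (ModSite.ringSh O) K
  exact isFlat_of_isColimit D hD c hc

theorem isFlat_cofan {ι : Type u} (F : ι → ModSite.Mod O)
    (hF : ∀ i, ModSite.IsFlat (F i)) (c : Cofan F) (hc : IsColimit c) : ModSite.IsFlat c.pt := by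
  have := Groth.Agent.H1.sheafOfModules_isGrothendieckAbelian J (ModSite.ringSh O)
  have : HasExactColimitsOfShape (Discrete ι) (ModSite.Mod O) :=
    (IsGrothendieckAbelian.ab4OfSize.{u} (C := SheafOfModules.{u} (ModSite.ringSh O))).ofShape ι
  exact isFlat_of_isColimit (Discrete.functor F) (fun ⟨i⟩ => hF i) c hc

end Groth.Agent.LD.MS
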