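import Mathlib
import Groth.Agent.Lib.Lead.MS.TensorColim

set_option autoImplicit false
universe u u₃
open CategoryTheory Opposite Limits

namespace Groth.Agent.LD.MS

section

variable {C : Type u} [SmallCategory C] {J : GrothendieckTopology C} (R : Sheaf J RingCat.{u})

/-- any colimit-preserving functor out of `SheafOfModules R` is a left adjoint (SAFT). -/
theorem isLeftAdjoint_of_preservesColimits' {E : Type u₃} [Category.{u} E]
    (G : SheafOfModules.{u} R ⥤ E) [PreservesColimitsOfSize.{u, u} G] : G.IsLeftAdjoint := by
  have := Groth.Agent.H1.sheafOfModules_isGrothendieckAbelian J R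
  have : WellPowered.{u} (SheafOfModules.{u} R) := IsGrothendieckAbelian.wellPowered _
  have : WellPowered.{u} (SheafOfModules.{u} R)ᵒᵖ := Abelian.wellPowered_opposite
  exact isLeftAdjoint_of_preservesColimits_of_isSeparating
    (Groth.Agent.H1.sheafOfModules_isSeparating J R) G

/-- the forgetful functor to abelian sheaves preserves colimits. -/
instance toSheaf_preservesColimits : PreservesColimitsOfSize.{u, u} (SheafOfModules.toSheaf.{u} R) := by
  refine ⟨fun {K} _ => ⟨fun {D} => ?_⟩⟩
  let a := PresheafOfModules.sheafification.{u} (𝟙 R.obj)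
  let i := SheafOfModules.forget.{u} R ⋙ PresheafOfModules.restrictScalars (𝟙 R.obj)
  let adj : a ⊣ i := PresheafOfModules.sheafificationAdjunction (𝟙 R.obj)
  have h1 : PreservesColimit (D ⋙ i) (a ⋙ SheafOfModules.toSheaf.{u} R) := by
    have : PreservesColimit (D ⋙ i)
        (PresheafOfModules.toPresheaf R.obj ⋙ presheafToSheaf J AddCommGrpCat.{u}) := inferInstance
    exact this
  have : PreservesColimit D (i ⋙ (a ⋙ SheafOfModules.toSheaf.{u} R)) :=
    preservesColimit_comp_of_inverts a i adj _ (fun f hf => by
      rw [Functor.comp_map]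
      infer_instance) D
  have e : i ⋙ (a ⋙ SheafOfModules.toSheaf.{u} R) ≅ SheafOfModules.toSheaf.{u} R :=
    (Functor.associator _ _ _).symm ≪≫ Functor.isoWhiskerRight (asIso adj.counit) _ ≪≫
      Functor.leftUnitor _
  exact preservesColimit_of_natIso D e

instance toSheaf_reflectsColimits : ReflectsColimitsOfSize.{u, u} (SheafOfModules.toSheaf.{u} R) :=
  ⟨fun {K} _ => reflectsColimitsOfShape_of_reflectsIsomorphisms⟩

end

section

variable {C : Type u} [SmallCategory C] {D : Type u} [SmallCategory D]
  (J : GrothendieckTopology C) (K : GrothendieckTopology D) (F : C ⥤ D)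
  [F.IsContinuous J K] [F.IsCocontinuous J K]
  {S : Sheaf J RingCat.{u}} {R : Sheaf K RingCat.{u}}
  (φ : S ⟶ (F.sheafPushforwardContinuous RingCat.{u} J K).obj R)

theorem pushforward_preservesColimits :
    PreservesColimitsOfSize.{u, u} (SheafOfModules.pushforward.{u} φ) := by
  refine ⟨fun {I} _ => ⟨fun {X} => ?_⟩⟩
  have h1 : PreservesColimit X (SheafOfModules.toSheaf.{u} R ⋙
      F.sheafPushforwardContinuous AddCommGrpCat.{u} J K) := by
    have : (F.sheafPushforwardContinuous AddCommGrpCat.{u} J K).IsLeftAdjoint :=
      (F.sheafAdjunctionCocontinuous AddCommGrpCat.{u} J K).isLeftAdjoint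
    infer_instance
  have h2 : PreservesColimit X (SheafOfModules.pushforward.{u} φ ⋙ SheafOfModules.toSheaf.{u} S) :=
    h1
  exact preservesColimit_of_reflects_of_preserves (SheafOfModules.pushforward.{u} φ)
    (SheafOfModules.toSheaf.{u} S)

theorem isLeftAdjoint_pushforward : (SheafOfModules.pushforward.{u} φ).IsLeftAdjoint := by
  have := pushforward_preservesColimits J K F φ
  exact isLeftAdjoint_of_preservesColimits' R _

end

end Groth.Agent.LD.MS
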