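import Mathlib
import Groth.Prelude.Def_ModSite
import Groth.Agent.Lib.Lead.MS.Flat3

set_option autoImplicit false
universe u
open CategoryTheory Opposite MonoidalCategory Limits

namespace Groth.Agent.LD.MS

variable {C : Type u} [SmallCategory C] {J : GrothendieckTopology C} {O : Sheaf J CommRingCat.{u}}

/-- `a(Q ⊗ P) ≅ a(i a Q ⊗ P)` naturally in `Q`. -/
noncomputable def unitRightIso (P : PMod O) :
    tensorRight P ⋙ shf O ≅ (shf O ⋙ incl O) ⋙ (tensorRight P ⋙ shf O) :=
  NatIso.ofComponents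
    (fun Q => @asIso _ _ _ _ ((shf O).map ((sadj' O).unit.app Q ▷ P))
      (isIso_sheafify_whiskerRight_unit P Q))
    (by
      intro Q Q' q
      change (shf O).map (q ▷ P) ≫ (shf O).map ((sadj' O).unit.app Q' ▷ P) =
        (shf O).map ((sadj' O).unit.app Q ▷ P) ≫ (shf O).map ((shf O ⋙ incl O).map q ▷ P)
      rw [← Functor.map_comp, ← Functor.map_comp, ← comp_whiskerRight, ← comp_whiskerRight]
      congr 2
      exact (sadj' O).unit.naturality q)

/-- `a(P ⊗ Q) ≅ a(P ⊗ i a Q)` naturally in `Q`. -/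
noncomputable def unitLeftIso (P : PMod O) :
    tensorLeft P ⋙ shf O ≅ (shf O ⋙ incl O) ⋙ (tensorLeft P ⋙ shf O) :=
  NatIso.ofComponents
    (fun Q => @asIso _ _ _ _ ((shf O).map (P ◁ (sadj' O).unit.app Q))
      (isIso_sheafify_whiskerLeft_unit P Q))
    (by
      intro Q Q' q
      change (shf O).map (P ◁ q) ≫ (shf O).map (P ◁ (sadj' O).unit.app Q') =
        (shf O).map (P ◁ (sadj' O).unit.app Q) ≫ (shf O).map (P ◁ (shf O ⋙ incl O).map q)
      rw [← Functor.map_comp, ← Functor.map_comp, ← whiskerLeft_comp, ← whiskerLeft_comp]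
      congr 2
      exact (sadj' O).unit.naturality q)

/-- associativity: `- ⊗ (G ⊗ F) ≅ (- ⊗ G) ⊗ F`. -/
noncomputable def flipTensorIso (G F : ModSite.Mod O) :
    (ModSite.tensorBi O).flip.obj (((ModSite.tensorBi O).obj G).obj F) ≅
      (ModSite.tensorBi O).flip.obj G ⋙ (ModSite.tensorBi O).flip.obj F :=
  (flipSheafifyIso ((incl O).obj G ⊗ (incl O).obj F)).symm ≪≫
    Functor.isoWhiskerLeft (incl O)
      (Functor.isoWhiskerRight (tensorRightTensor ((incl O).obj G) ((incl O).obj F)) (shf O)) ≪≫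
    Functor.isoWhiskerLeft (incl O)
      (Functor.isoWhiskerLeft (tensorRight ((incl O).obj G)) (unitRightIso ((incl O).obj F))) ≪≫
    (show incl O ⋙ tensorRight ((incl O).obj G) ⋙ (shf O ⋙ incl O) ⋙
        (tensorRight ((incl O).obj F) ⋙ shf O) ≅
      (incl O ⋙ (tensorRight ((incl O).obj G) ⋙ shf O)) ⋙
        (incl O ⋙ (tensorRight ((incl O).obj F) ⋙ shf O)) from Iso.refl _) ≪≫
    Functor.isoWhiskerRight (flipIso G).symm _ ≪≫
    Functor.isoWhiskerLeft _ (flipIso F).symm

theorem isFlat_tensor (G F : ModSite.Mod O) (hG : ModSite.IsFlat G) (hF : ModSite.IsFlat F) :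
    ModSite.IsFlat (((ModSite.tensorBi O).obj G).obj F) := by
  rw [isFlat_iff_preservesMono]
  have := preservesMono_flip_of_isFlat hG
  have := preservesMono_flip_of_isFlat hF
  have : ((ModSite.tensorBi O).flip.obj G ⋙ (ModSite.tensorBi O).flip.obj F).PreservesMonomorphisms :=
    inferInstance
  exact Functor.preservesMonomorphisms.of_iso (flipTensorIso G F).symm

end Groth.Agent.LD.MS
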