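import Mathlib
import Groth.Prelude.Def_KFlatSite
import Groth.Agent.Lib.Lead.MS.Assoc

/-! # The associator of the tensor product of sheaves of modules on a ringed site, natural in the three
variables, and the associativity of the tensor product of complexes. -/

set_option autoImplicit false
universe u
open CategoryTheory Limits MonoidalCategory Opposite

namespace Groth.Agent.LD.MS

variable {C : Type u} [SmallCategory C] {J : GrothendieckTopology C} {O : Sheaf J CommRingCat.{u}}

/-- the unit of sheafification. -/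
noncomputable abbrev eta (P : PMod O) : P ⟶ (incl O).obj ((shf O).obj P) := (sadj' O).unit.app P

theorem eta_naturality {P Q : PMod O} (k : P ⟶ Q) :
    k ≫ eta Q = eta P ≫ (incl O).map ((shf O).map k) := (sadj' O).unit.naturality k

theorem shf_whiskerRight_eta {P Q : PMod O} (k : P ⟶ Q) (X : PMod O) :
    (shf O).map (eta P ▷ X) ≫ (shf O).map ((incl O).map ((shf O).map k) ▷ X) =
      (shf O).map (k ▷ X) ≫ (shf O).map (eta Q ▷ X) := by
  rw [← Functor.map_comp, ← Functor.map_comp, ← comp_whiskerRight, ← comp_whiskerRight,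
    eta_naturality]

theorem shf_whiskerLeft_eta {P Q : PMod O} (k : P ⟶ Q) (X : PMod O) :
    (shf O).map (X ◁ eta P) ≫ (shf O).map (X ◁ (incl O).map ((shf O).map k)) =
      (shf O).map (X ◁ k) ≫ (shf O).map (X ◁ eta Q) := by
  rw [← Functor.map_comp, ← Functor.map_comp, ← whiskerLeft_comp, ← whiskerLeft_comp,
    eta_naturality]

variable (A B D : ModSite.Mod O)

/-- `a((iA ⊗ iB) ⊗ iD) ⟶ (A ⊗ B) ⊗ D`. -/
noncomputable def uMap :
    (shf O).obj (((incl O).obj A ⊗ (incl O).obj B) ⊗ (incl O).obj D) ⟶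
      ((ModSite.tensorBi O).obj (((ModSite.tensorBi O).obj A).obj B)).obj D :=
  (shf O).map (eta ((incl O).obj A ⊗ (incl O).obj B) ▷ (incl O).obj D)

instance : IsIso (uMap A B D) := isIso_sheafify_whiskerRight_unit _ _

/-- `a(iA ⊗ (iB ⊗ iD)) ⟶ A ⊗ (B ⊗ D)`. -/
noncomputable def vMap :
    (shf O).obj ((incl O).obj A ⊗ ((incl O).obj B ⊗ (incl O).obj D)) ⟶
      ((ModSite.tensorBi O).obj A).obj (((ModSite.tensorBi O).obj B).obj D) :=
  (shf O).map ((incl O).obj A ◁ eta ((incl O).obj B ⊗ (incl O).obj D))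

instance : IsIso (vMap A B D) := isIso_sheafify_whiskerLeft_unit _ _

/-- the sheafified presheaf associator. -/
noncomputable def wMap :
    (shf O).obj (((incl O).obj A ⊗ (incl O).obj B) ⊗ (incl O).obj D) ⟶
      (shf O).obj ((incl O).obj A ⊗ ((incl O).obj B ⊗ (incl O).obj D)) :=
  (shf O).map (α_ ((incl O).obj A) ((incl O).obj B) ((incl O).obj D)).hom

instance : IsIso (wMap A B D) := by unfold wMap; infer_instance

/-- the associator `(A ⊗ B) ⊗ D ⟶ A ⊗ (B ⊗ D)` of sheaves of modules. -/
noncomputable def assocHom :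
    ((ModSite.tensorBi O).obj (((ModSite.tensorBi O).obj A).obj B)).obj D ⟶
      ((ModSite.tensorBi O).obj A).obj (((ModSite.tensorBi O).obj B).obj D) :=
  inv (uMap A B D) ≫ wMap A B D ≫ vMap A B D

instance : IsIso (assocHom A B D) := by unfold assocHom; infer_instance

/-- the associator as an isomorphism. -/
noncomputable def assocIso :
    ((ModSite.tensorBi O).obj (((ModSite.tensorBi O).obj A).obj B)).obj D ≅
      ((ModSite.tensorBi O).obj A).obj (((ModSite.tensorBi O).obj B).obj D) :=
  asIso (assocHom A B D)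

theorem uMap_assocHom : uMap A B D ≫ assocHom A B D = wMap A B D ≫ vMap A B D := by
  unfold assocHom
  rw [IsIso.hom_inv_id_assoc]

variable {A B D}

/-! ### the `u`-squares -/

theorem u_sq1 {A' : ModSite.Mod O} (f : A ⟶ A') (B D : ModSite.Mod O) :
    uMap A B D ≫ ((ModSite.tensorBi O).map (((ModSite.tensorBi O).map f).app B)).app D =
      (shf O).map (((incl O).map f ▷ (incl O).obj B) ▷ (incl O).obj D) ≫ uMap A' B D :=
  shf_whiskerRight_eta ((incl O).map f ▷ (incl O).obj B) ((incl O).obj D)

theorem u_sq2 (A : ModSite.Mod O) {B B' : ModSite.Mod O} (g : B ⟶ B') (D : ModSite.Mod O) :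
    uMap A B D ≫ ((ModSite.tensorBi O).map (((ModSite.tensorBi O).obj A).map g)).app D =
      (shf O).map (((incl O).obj A ◁ (incl O).map g) ▷ (incl O).obj D) ≫ uMap A B' D :=
  shf_whiskerRight_eta ((incl O).obj A ◁ (incl O).map g) ((incl O).obj D)

theorem u_sq3 (A B : ModSite.Mod O) {D D' : ModSite.Mod O} (h : D ⟶ D') :
    uMap A B D ≫ ((ModSite.tensorBi O).obj (((ModSite.tensorBi O).obj A).obj B)).map h =
      (shf O).map (((incl O).obj A ⊗ (incl O).obj B) ◁ (incl O).map h) ≫ uMap A B D' := by
  change (shf O).map (eta ((incl O).obj A ⊗ (incl O).obj B) ▷ (incl O).obj D) ≫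
      (shf O).map ((incl O).obj ((shf O).obj ((incl O).obj A ⊗ (incl O).obj B)) ◁ (incl O).map h) =
    (shf O).map (((incl O).obj A ⊗ (incl O).obj B) ◁ (incl O).map h) ≫
      (shf O).map (eta ((incl O).obj A ⊗ (incl O).obj B) ▷ (incl O).obj D')
  rw [← Functor.map_comp, ← Functor.map_comp, whisker_exchange]

/-! ### the `v`-squares -/

theorem v_sq1 {A' : ModSite.Mod O} (f : A ⟶ A') (B D : ModSite.Mod O) :
    vMap A B D ≫ ((ModSite.tensorBi O).map f).app (((ModSite.tensorBi O).obj B).obj D) =
      (shf O).map ((incl O).map f ▷ ((incl O).obj B ⊗ (incl O).obj D)) ≫ vMap A' B D := by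
  change (shf O).map ((incl O).obj A ◁ eta ((incl O).obj B ⊗ (incl O).obj D)) ≫
      (shf O).map ((incl O).map f ▷ (incl O).obj ((shf O).obj ((incl O).obj B ⊗ (incl O).obj D))) =
    (shf O).map ((incl O).map f ▷ ((incl O).obj B ⊗ (incl O).obj D)) ≫
      (shf O).map ((incl O).obj A' ◁ eta ((incl O).obj B ⊗ (incl O).obj D))
  rw [← Functor.map_comp, ← Functor.map_comp, whisker_exchange]

theorem v_sq2 (A : ModSite.Mod O) {B B' : ModSite.Mod O} (g : B ⟶ B') (D : ModSite.Mod O) :
    vMap A B D ≫ ((ModSite.tensorBi O).obj A).map (((ModSite.tensorBi O).map g).app D) =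
      (shf O).map ((incl O).obj A ◁ ((incl O).map g ▷ (incl O).obj D)) ≫ vMap A B' D :=
  shf_whiskerLeft_eta ((incl O).map g ▷ (incl O).obj D) ((incl O).obj A)

theorem v_sq3 (A B : ModSite.Mod O) {D D' : ModSite.Mod O} (h : D ⟶ D') :
    vMap A B D ≫ ((ModSite.tensorBi O).obj A).map (((ModSite.tensorBi O).obj B).map h) =
      (shf O).map ((incl O).obj A ◁ ((incl O).obj B ◁ (incl O).map h)) ≫ vMap A B D' :=
  shf_whiskerLeft_eta ((incl O).obj B ◁ (incl O).map h) ((incl O).obj A)

/-! ### the `w`-squares -/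

theorem w_sq1 {A' : ModSite.Mod O} (f : A ⟶ A') (B D : ModSite.Mod O) :
    (shf O).map (((incl O).map f ▷ (incl O).obj B) ▷ (incl O).obj D) ≫ wMap A' B D =
      wMap A B D ≫ (shf O).map ((incl O).map f ▷ ((incl O).obj B ⊗ (incl O).obj D)) := by
  unfold wMap
  rw [← Functor.map_comp, ← Functor.map_comp, associator_naturality_left]

theorem w_sq2 (A : ModSite.Mod O) {B B' : ModSite.Mod O} (g : B ⟶ B') (D : ModSite.Mod O) :
    (shf O).map (((incl O).obj A ◁ (incl O).map g) ▷ (incl O).obj D) ≫ wMap A B' D =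
      wMap A B D ≫ (shf O).map ((incl O).obj A ◁ ((incl O).map g ▷ (incl O).obj D)) := by
  unfold wMap
  rw [← Functor.map_comp, ← Functor.map_comp, associator_naturality_middle]

theorem w_sq3 (A B : ModSite.Mod O) {D D' : ModSite.Mod O} (h : D ⟶ D') :
    (shf O).map (((incl O).obj A ⊗ (incl O).obj B) ◁ (incl O).map h) ≫ wMap A B D' =
      wMap A B D ≫ (shf O).map ((incl O).obj A ◁ ((incl O).obj B ◁ (incl O).map h)) := by
  unfold wMap
  rw [← Functor.map_comp, ← Functor.map_comp, associator_naturality_right]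

/-! ### naturality of the associator -/

theorem assoc_nat1 {A' : ModSite.Mod O} (f : A ⟶ A') (B D : ModSite.Mod O) :
    ((ModSite.tensorBi O).map (((ModSite.tensorBi O).map f).app B)).app D ≫ assocHom A' B D =
      assocHom A B D ≫ ((ModSite.tensorBi O).map f).app (((ModSite.tensorBi O).obj B).obj D) := by
  rw [← cancel_epi (uMap A B D), reassoc_of% (u_sq1 f B D), uMap_assocHom,
    reassoc_of% (uMap_assocHom A B D), reassoc_of% (w_sq1 f B D), v_sq1]
  rfl

theorem assoc_nat2 (A : ModSite.Mod O) {B B' : ModSite.Mod O} (g : B ⟶ B') (D : ModSite.Mod O) :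
    ((ModSite.tensorBi O).map (((ModSite.tensorBi O).obj A).map g)).app D ≫ assocHom A B' D =
      assocHom A B D ≫
        ((ModSite.tensorBi O).obj A).map (((ModSite.tensorBi O).map g).app D) := by
  rw [← cancel_epi (uMap A B D), reassoc_of% (u_sq2 A g D), uMap_assocHom,
    reassoc_of% (uMap_assocHom A B D), reassoc_of% (w_sq2 A g D), v_sq2]
  rfl

theorem assoc_nat3 (A B : ModSite.Mod O) {D D' : ModSite.Mod O} (h : D ⟶ D') :
    ((ModSite.tensorBi O).obj (((ModSite.tensorBi O).obj A).obj B)).map h ≫ assocHom A B D' =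
      assocHom A B D ≫
        ((ModSite.tensorBi O).obj A).map (((ModSite.tensorBi O).obj B).map h) := by
  rw [← cancel_epi (uMap A B D), reassoc_of% (u_sq3 A B h), uMap_assocHom,
    reassoc_of% (uMap_assocHom A B D), reassoc_of% (w_sq3 A B h), v_sq3]
  rfl

variable (O) in
/-- **the associator of the tensor product of sheaves of modules**, as an isomorphism of
trifunctors. -/
noncomputable def assoc3 :
    bifunctorComp₁₂ (ModSite.tensorBi O) (ModSite.tensorBi O) ≅
      bifunctorComp₂₃ (ModSite.tensorBi O) (ModSite.tensorBi O) :=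
  NatIso.ofComponents
    (fun A => NatIso.ofComponents
      (fun B => NatIso.ofComponents (fun D => assocIso A B D)
        (fun {D D'} h => assoc_nat3 A B h))
      (fun {B B'} g => by
        refine NatTrans.ext (funext fun D => ?_)
        exact assoc_nat2 A g D))
    (fun {A A'} f => by
      refine NatTrans.ext (funext fun B => NatTrans.ext (funext fun D => ?_))
      exact assoc_nat1 f B D)

/-! ### complexes -/

instance preservesSmallest_flip (F : ModSite.Mod O) :
    PreservesColimitsOfSize.{0, 0} ((ModSite.tensorBi O).flip.obj F) :=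
  preservesSmallestColimits_of_preservesColimits _

instance preservesSmallest_obj (F : ModSite.Mod O) :
    PreservesColimitsOfSize.{0, 0} ((ModSite.tensorBi O).obj F) := by
  haveI := isLeftAdjoint_tensorBi_obj F
  haveI : PreservesColimitsOfSize.{u, u} ((ModSite.tensorBi O).obj F) :=
    (Adjunction.ofIsLeftAdjoint ((ModSite.tensorBi O).obj F)).leftAdjoint_preservesColimits
  exact preservesSmallestColimits_of_preservesColimits _

instance goodTri₁₂ (K₁ K₂ K₃ : CochainComplex (ModSite.Mod O) ℤ) :
    HomologicalComplex.HasGoodTrifunctor₁₂Obj (ModSite.tensorBi O) (ModSite.tensorBi O) K₁ K₂ K₃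
      (ComplexShape.up ℤ) (ComplexShape.up ℤ) :=
  fun _ _ => inferInstance

instance goodTri₂₃ (K₁ K₂ K₃ : CochainComplex (ModSite.Mod O) ℤ) :
    HomologicalComplex.HasGoodTrifunctor₂₃Obj (ModSite.tensorBi O) (ModSite.tensorBi O) K₁ K₂ K₃
      (ComplexShape.up ℤ) (ComplexShape.up ℤ) (ComplexShape.up ℤ) :=
  fun _ _ => inferInstance

/-- **associativity of the tensor product of complexes of modules on a ringed site.** -/
noncomputable def tensorCxAssoc (F K L : CochainComplex (ModSite.Mod O) ℤ) :
    ((ModSite.tensorCx O).obj (((ModSite.tensorCx O).obj F).obj K)).obj L ≅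
      ((ModSite.tensorCx O).obj F).obj (((ModSite.tensorCx O).obj K).obj L) :=
  HomologicalComplex.mapBifunctorAssociator (assoc3 O) F K L
    (ComplexShape.up ℤ) (ComplexShape.up ℤ) (ComplexShape.up ℤ)

/-- **S9055**: the tensor product of two K-flat complexes is K-flat. -/
theorem isKFlat_tensorCx (K L : CochainComplex (ModSite.Mod O) ℤ)
    (hK : ModSite.IsKFlat K) (hL : ModSite.IsKFlat L) :
    ModSite.IsKFlat (((ModSite.tensorCx O).obj K).obj L) := by
  intro F hF i
  have h1 := hK F hF
  have h2 := hL (((ModSite.tensorCx O).obj F).obj K) h1 i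
  exact h2.of_iso ((HomologicalComplex.homologyFunctor _ _ i).mapIso (tensorCxAssoc F K L).symm)

end Groth.Agent.LD.MS
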