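import Mathlib
import Groth.Prelude.Def_ModSite

/-!
# Module pullback of free modules along a morphism of ringed sites

For `f : ModSite.RMor O_C O_D` the underlying functor need not be final, so Mathlib's
`SheafOfModules.pullbackObjFreeIso` does not apply.  We use instead that the pullback of
sheaves of sets preserves the terminal sheaf: global sections of `f_* M` are the global sections of `M`.
-/

universe u

open CategoryTheory Limits Opposite

namespace Groth.Agent.LD.PullFree

section Types

variable {C D : Type u} [SmallCategory C] [SmallCategory D]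
  {J : GrothendieckTopology C} {K : GrothendieckTopology D}
  (G : D ⥤ C) [G.IsContinuous K J]

/-- the explicit terminal sheaf of sets. -/
noncomputable abbrev tSh (J : GrothendieckTopology C) : Sheaf J (Type u) :=
  Sheaf.terminal J Types.isTerminalPUnit.{u}

/-- morphisms from the terminal sheaf are the sections. -/
noncomputable def homEquivSections (P : Sheaf J (Type u)) : (tSh J ⟶ P) ≃ P.obj.sections :=
  Sheaf.homEquiv.trans (P.obj.sectionsEquivHom PUnit.{u+1}).symm

theorem homEquivSections_apply (P : Sheaf J (Type u)) (g : tSh J ⟶ P) (c : Cᵒᵖ) :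
    (homEquivSections P g).1 c = g.hom.app c PUnit.unit := rfl

/-- the canonical map from the terminal sheaf to the direct image of the terminal sheaf. -/
noncomputable def uMap : tSh K ⟶ (G.sheafPushforwardContinuous (Type u) K J).obj (tSh J) :=
  ⟨{ app := fun _ => 𝟙 _, naturality := fun _ _ _ => rfl }⟩

theorem uMap_comp_apply (P : Sheaf J (Type u)) (g : tSh J ⟶ P) (d : Dᵒᵖ) :
    (homEquivSections ((G.sheafPushforwardContinuous (Type u) K J).obj P)
      (uMap G ≫ (G.sheafPushforwardContinuous (Type u) K J).map g)).1 d =
      (homEquivSections P g).1 (G.op.obj d) := rfl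

theorem hom_ext_to_pushT (A : Sheaf K (Type u))
    (a b : A ⟶ (G.sheafPushforwardContinuous (Type u) K J).obj (tSh J)) : a = b := by
  apply ObjectProperty.hom_ext
  ext d x
  rfl

variable (hG : PreservesFiniteLimits (G.sheafPullback (Type u) K J))

include hG in
noncomputable def t1 : IsTerminal ((G.sheafPullback (Type u) K J).obj (tSh K)) :=
    haveI := hG
    IsTerminal.isTerminalObj _ _ (Sheaf.isTerminalTerminal K Types.isTerminalPUnit.{u})

include hG in
theorem bijective_comp_pushT (P : Sheaf J (Type u)) :
    Function.Bijective (fun g : tSh J ⟶ P =>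
      uMap G ≫ (G.sheafPushforwardContinuous (Type u) K J).map g) := by
  let adj := G.sheafAdjunctionContinuous (Type u) K J
  let e : (G.sheafPullback (Type u) K J).obj (tSh K) ≅ tSh J :=
    (t1 G hG).uniqueUpToIso (Sheaf.isTerminalTerminal J Types.isTerminalPUnit.{u})
  have key : ∀ g : tSh J ⟶ P,
      uMap G ≫ (G.sheafPushforwardContinuous (Type u) K J).map g =
        adj.homEquiv _ _ (e.hom ≫ g) := by
    intro g
    have h1 : uMap G = adj.unit.app (tSh K) ≫
        (G.sheafPushforwardContinuous (Type u) K J).map e.hom := hom_ext_to_pushT G _ _ _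
    rw [Adjunction.homEquiv_unit, Functor.map_comp, ← Category.assoc, ← h1]
  have hb : Function.Bijective (fun g : tSh J ⟶ P => adj.homEquiv _ _ (e.hom ≫ g)) := by
    refine (adj.homEquiv _ _).bijective.comp ?_
    constructor
    · intro g g' h
      exact (cancel_epi e.hom).1 h
    · intro g
      exact ⟨e.inv ≫ g, by simp⟩
  have : (fun g : tSh J ⟶ P => uMap G ≫ (G.sheafPushforwardContinuous (Type u) K J).map g) =
      (fun g : tSh J ⟶ P => adj.homEquiv _ _ (e.hom ≫ g)) := funext key
  rw [this]
  exact hb

include hG in
theorem bijective_sectionsPrecomp (P : Sheaf J (Type u)) :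
    Function.Bijective (G.op.sectionsPrecomp (P := P.obj)) := by
  have hb := bijective_comp_pushT G hG P
  have hcomm : ∀ g : tSh J ⟶ P,
      G.op.sectionsPrecomp (homEquivSections P g) =
        homEquivSections ((G.sheafPushforwardContinuous (Type u) K J).obj P)
          (uMap G ≫ (G.sheafPushforwardContinuous (Type u) K J).map g) := by
    intro g
    apply Subtype.ext
    funext d
    exact (uMap_comp_apply G P g d).symm
  constructor
  · intro s s' h
    obtain ⟨g, hg⟩ := (homEquivSections P).surjective s
    obtain ⟨g', hg'⟩ := (homEquivSections P).surjective s'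
    have h2 : homEquivSections ((G.sheafPushforwardContinuous (Type u) K J).obj P)
          (uMap G ≫ (G.sheafPushforwardContinuous (Type u) K J).map g) =
        homEquivSections ((G.sheafPushforwardContinuous (Type u) K J).obj P)
          (uMap G ≫ (G.sheafPushforwardContinuous (Type u) K J).map g') := by
      rw [← hcomm g, ← hcomm g', hg, hg']
      exact h
    have h3 : g = g' := hb.1 ((homEquivSections _).injective h2)
    rw [← hg, ← hg', h3]
  · intro t
    obtain ⟨t', ht'⟩ := (homEquivSections ((G.sheafPushforwardContinuous (Type u) K J).obj P)).surjective t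
    obtain ⟨g, hg⟩ := hb.2 t'
    refine ⟨homEquivSections P g, ?_⟩
    rw [hcomm g, ← ht']
    exact congrArg _ hg

end Types

section Mod

variable {C D : Type u} [SmallCategory C] [SmallCategory D] {J : GrothendieckTopology C}
    {K : GrothendieckTopology D} {O_C : Sheaf J CommRingCat.{u}} {O_D : Sheaf K CommRingCat.{u}}
    (f : ModSite.RMor O_C O_D)

/-- the sheaf of sets underlying a module. -/
noncomputable def tyS (M : ModSite.Mod O_C) : Sheaf J (Type u) :=
  (sheafCompose J (forget AddCommGrpCat.{u})).obj ⟨M.val.presheaf, M.isSheaf⟩

theorem bijective_pushforwardSections (M : ModSite.Mod O_C) :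
    Function.Bijective (SheafOfModules.pushforwardSections f.sharpR (M := M)) :=
  bijective_sectionsPrecomp f.fn f.exact (tyS M)

instance isIso_pullUnit : IsIso (SheafOfModules.pullbackObjUnitToUnit f.sharpR) := by
  rw [isIso_iff_coyoneda_map_bijective]
  intro M
  rw [← ((SheafOfModules.pullbackPushforwardAdjunction.{u} f.sharpR).homEquiv _ _).bijective.of_comp_iff',
    ← (SheafOfModules.unitHomEquiv _).bijective.of_comp_iff']
  convert! (bijective_pushforwardSections f M).comp (SheafOfModules.unitHomEquiv _).bijective
  ext g : 1
  dsimp
  rw [SheafOfModules.pushforwardSections_unitHomEquiv, EmbeddingLike.apply_eq_iff_eq,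
    Adjunction.homEquiv_naturality_right,
    SheafOfModules.pullbackPushforwardAdjunction_homEquiv_pullbackObjUnitToUnit]

/-- The module pullback of the structure sheaf is the structure sheaf. -/
noncomputable def pullUnitIso : f.pull.obj (ModSite.unit O_D) ≅ ModSite.unit O_C :=
  asIso (SheafOfModules.pullbackObjUnitToUnit f.sharpR)

/-- The module pullback of a free module is free on the same set. -/
noncomputable def pullFreeIso (I : Type u) :
    f.pull.obj (SheafOfModules.free (R := ModSite.ringSh O_D) I) ≅
      SheafOfModules.free (R := ModSite.ringSh O_C) I :=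
  (asIso (sigmaComparison f.pull (fun _ : I => SheafOfModules.unit (ModSite.ringSh O_D)))).symm ≪≫
    Sigma.mapIso (fun _ ↦ asIso (SheafOfModules.pullbackObjUnitToUnit f.sharpR))

end Mod

end Groth.Agent.LD.PullFree
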