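import Mathlib
import Groth.Prelude.Def_ModSite
import Groth.Agent.Lib.Lead.MS.TensorColim
import Groth.Agent.Lib.Lead.MS.Flat2
import Groth.Agent.Lib.Lead.KT.LocalExt

/-! # Tensor products of generators, presentations and free modules on a ringed site. -/

set_option autoImplicit false
universe u v w
open CategoryTheory Opposite Limits

namespace Groth.Agent.LD.MS

section IsCok

variable {A : Type*} [Category A] [HasZeroMorphisms A]

/-- `g` is a cokernel of `f` (as a proposition). -/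
def IsCok {X Y Z : A} (f : X ⟶ Y) (g : Y ⟶ Z) : Prop :=
  f ≫ g = 0 ∧ ∀ ⦃T : A⦄ (k : Y ⟶ T), f ≫ k = 0 → ∃! l : Z ⟶ T, g ≫ l = k

namespace IsCok

variable {X Y Z : A} {f : X ⟶ Y} {g : Y ⟶ Z}

lemma epi (h : IsCok f g) : Epi g := by
  refine ⟨fun {T} a b hab => ?_⟩
  have hk : f ≫ (g ≫ a) = 0 := by rw [← Category.assoc, h.1, zero_comp]
  obtain ⟨l, _, hl⟩ := h.2 (g ≫ a) hk
  rw [hl a rfl, hl b hab.symm]

/-- from a colimit cokernel cofork. -/
lemma of_isColimit (H : f ≫ g = 0) (hc : IsColimit (CokernelCofork.ofπ g H)) : IsCok f g := by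
  refine ⟨H, fun T k hk => ?_⟩
  have e2 : g ≫ hc.desc (CokernelCofork.ofπ k hk) = k :=
    hc.fac (CokernelCofork.ofπ k hk) WalkingParallelPair.one
  refine ⟨hc.desc (CokernelCofork.ofπ k hk), e2, ?_⟩
  intro m hm
  have e1 : g ≫ m = k := hm
  apply Cofork.IsColimit.hom_ext hc
  show g ≫ m = g ≫ hc.desc (CokernelCofork.ofπ k hk)
  rw [e1, e2]

/-- to a colimit cokernel cofork. -/
noncomputable def isColimit (h : IsCok f g) : IsColimit (CokernelCofork.ofπ g h.1) :=
  CokernelCofork.IsColimit.ofπ g h.1 (fun k hk => (h.2 k hk).choose)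
    (fun k hk => (h.2 k hk).choose_spec.1)
    (fun k hk m hm => (h.2 k hk).choose_spec.2 m hm)

lemma of_epi_comp {W : A} (e : W ⟶ X) [Epi e] (h : IsCok f g) : IsCok (e ≫ f) g := by
  refine ⟨by rw [Category.assoc, h.1, comp_zero], fun T k hk => ?_⟩
  have hk' : f ≫ k = 0 := by
    rw [← cancel_epi e, ← Category.assoc, hk, comp_zero]
  exact h.2 k hk'

lemma iso_mid {Y' : A} (m : Y ≅ Y') (h : IsCok f g) : IsCok (f ≫ m.hom) (m.inv ≫ g) := by
  refine ⟨by rw [Category.assoc, Iso.hom_inv_id_assoc, h.1], fun T k hk => ?_⟩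
  have hk' : f ≫ (m.hom ≫ k) = 0 := by rw [← Category.assoc]; exact hk
  obtain ⟨l, hl, hu⟩ := h.2 (m.hom ≫ k) hk'
  have hl' : g ≫ l = m.hom ≫ k := hl
  refine ⟨l, ?_, ?_⟩
  · show (m.inv ≫ g) ≫ l = k
    rw [Category.assoc, hl', Iso.inv_hom_id_assoc]
  · intro y hy
    have hy' : (m.inv ≫ g) ≫ y = k := hy
    apply hu
    show g ≫ y = m.hom ≫ k
    rw [← hy', Category.assoc, Iso.hom_inv_id_assoc]

lemma iso_tgt {Z' : A} (t : Z ≅ Z') (h : IsCok f g) : IsCok f (g ≫ t.hom) := by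
  refine ⟨by rw [← Category.assoc, h.1, zero_comp], fun T k hk => ?_⟩
  obtain ⟨l, hl, hu⟩ := h.2 k hk
  have hl' : g ≫ l = k := hl
  refine ⟨t.inv ≫ l, ?_, ?_⟩
  · show (g ≫ t.hom) ≫ t.inv ≫ l = k
    rw [Category.assoc, Iso.hom_inv_id_assoc, hl']
  · intro y hy
    have hy' : (g ≫ t.hom) ≫ y = k := hy
    have h1 : t.hom ≫ y = l := hu (t.hom ≫ y) (by
      show g ≫ t.hom ≫ y = k
      rw [← Category.assoc]; exact hy')
    rw [← h1, Iso.inv_hom_id_assoc]

lemma comp [HasBinaryCoproducts A] {U V X Y Z : A} {u : U ⟶ X} {v : V ⟶ X} {π : X ⟶ Y}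
    {ρ : Y ⟶ Z} (h1 : IsCok u π) (h2 : IsCok (v ≫ π) ρ) :
    IsCok (coprod.desc u v) (π ≫ ρ) := by
  refine ⟨?_, fun T k hk => ?_⟩
  · apply coprod.hom_ext
    · simp only [coprod.inl_desc_assoc, comp_zero]
      rw [← Category.assoc, h1.1, zero_comp]
    · simp only [coprod.inr_desc_assoc, comp_zero]
      rw [← Category.assoc, h2.1]
  · have hu : u ≫ k = 0 := by
      calc u ≫ k = (coprod.inl ≫ coprod.desc u v) ≫ k := by rw [coprod.inl_desc]
        _ = 0 := by rw [Category.assoc, hk, comp_zero]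
    have hv : v ≫ k = 0 := by
      calc v ≫ k = (coprod.inr ≫ coprod.desc u v) ≫ k := by rw [coprod.inr_desc]
        _ = 0 := by rw [Category.assoc, hk, comp_zero]
    obtain ⟨l1, hl1, hu1⟩ := h1.2 k hu
    have hl1' : π ≫ l1 = k := hl1
    have hv' : (v ≫ π) ≫ l1 = 0 := by rw [Category.assoc, hl1', hv]
    obtain ⟨l2, hl2, hu2⟩ := h2.2 l1 hv'
    have hl2' : ρ ≫ l2 = l1 := hl2
    refine ⟨l2, ?_, ?_⟩
    · show (π ≫ ρ) ≫ l2 = k
      rw [Category.assoc, hl2', hl1']
    · intro y hy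
      have hy' : (π ≫ ρ) ≫ y = k := hy
      apply hu2
      show ρ ≫ y = l1
      apply hu1
      show π ≫ ρ ≫ y = k
      rw [← Category.assoc]; exact hy'

lemma map {B : Type*} [Category B] [HasZeroMorphisms B] (Φ : A ⥤ B) [Φ.PreservesZeroMorphisms]
    [PreservesColimit (parallelPair f 0) Φ] (h : IsCok f g) : IsCok (Φ.map f) (Φ.map g) :=
  of_isColimit ((CokernelCofork.ofπ g h.1).map_condition Φ)
    ((CokernelCofork.ofπ g h.1).mapIsColimit h.isColimit Φ)

end IsCok

end IsCok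

section Pred

variable {C : Type u} [SmallCategory C] {J : GrothendieckTopology C} {R : Sheaf J RingCat.{u}}

/-- `M` is generated by a family of sections indexed by `I`. -/
def GenBy (I : Type u) (M : SheafOfModules.{u} R) : Prop :=
  ∃ φ : SheafOfModules.free (R := R) I ⟶ M, Epi φ

/-- `M` is free on `I`. -/
def FreeBy (I : Type u) (M : SheafOfModules.{u} R) : Prop :=
  Nonempty (SheafOfModules.free (R := R) I ≅ M)

/-- `M` has a presentation with generators `I` and relations `I'`. -/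
def PresBy (I' I : Type u) (M : SheafOfModules.{u} R) : Prop :=
  ∃ (f : SheafOfModules.free (R := R) I' ⟶ SheafOfModules.free (R := R) I)
    (g : SheafOfModules.free (R := R) I ⟶ M), IsCok f g

variable {I I' : Type u} {M N : SheafOfModules.{u} R}

lemma GenBy.of_generatingSections (σ : M.GeneratingSections) : GenBy σ.I M := ⟨σ.π, σ.epi⟩

/-- generating sections from `GenBy`. -/
noncomputable def GenBy.toGen (h : GenBy I M) : M.GeneratingSections where
  I := I
  s := M.freeHomEquiv h.choose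
  epi := by
    rw [Equiv.symm_apply_apply]
    exact h.choose_spec

lemma GenBy.ofIso (e : M ≅ N) (h : GenBy I M) : GenBy I N := by
  obtain ⟨φ, hφ⟩ := h
  exact ⟨φ ≫ e.hom, epi_comp _ _⟩

lemma FreeBy.of_generatingSections (σ : M.GeneratingSections) [IsIso σ.π] : FreeBy σ.I M :=
  ⟨asIso σ.π⟩

/-- generating sections with invertible `π` from `FreeBy`. -/
noncomputable def FreeBy.toGen (h : FreeBy I M) : M.GeneratingSections where
  I := I
  s := M.freeHomEquiv h.some.hom
  epi := by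
    rw [Equiv.symm_apply_apply]
    infer_instance

lemma FreeBy.isIso_toGen_π (h : FreeBy I M) : IsIso h.toGen.π := by
  have e : h.toGen.π = h.some.hom := Equiv.symm_apply_apply _ _
  rw [e]
  infer_instance

lemma FreeBy.ofIso (e : M ≅ N) (h : FreeBy I M) : FreeBy I N := ⟨h.some ≪≫ e⟩

lemma PresBy.of_presentation (P : M.Presentation) : PresBy P.relations.I P.generators.I M :=
  ⟨_, P.generators.π, IsCok.of_isColimit _ P.isColimit⟩

/-- a presentation from `PresBy`. -/
noncomputable def PresBy.toPres (h : PresBy I' I M) : M.Presentation :=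
  SheafOfModules.presentationOfIsCokernelFree h.choose h.choose_spec.choose
    h.choose_spec.choose_spec.1 h.choose_spec.choose_spec.isColimit

lemma PresBy.ofIso (e : M ≅ N) (h : PresBy I' I M) : PresBy I' I N := by
  obtain ⟨f, g, hfg⟩ := h
  exact ⟨f, g ≫ e.hom, hfg.iso_tgt e⟩

section Map

variable {C' : Type u} [SmallCategory C'] {J' : GrothendieckTopology C'} {S : Sheaf J' RingCat.{u}}
  (Φ : SheafOfModules.{u} R ⥤ SheafOfModules.{u} S) [PreservesColimitsOfSize.{u, u} Φ]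
  (η : SheafOfModules.unit S ≅ Φ.obj (SheafOfModules.unit R))

include η in
lemma GenBy.map (h : GenBy I M) : GenBy I (Φ.obj M) :=
  GenBy.of_generatingSections (h.toGen.map Φ η)

include η in
lemma FreeBy.map (h : FreeBy I M) : FreeBy I (Φ.obj M) :=
  ⟨SheafOfModules.mapFreeIso Φ I η ≪≫ Φ.mapIso h.some⟩

include η in
lemma PresBy.map (h : PresBy I' I M) : PresBy I' I (Φ.obj M) :=
  PresBy.of_presentation (h.toPres.map Φ η)

end Map

end Pred

section Tens

variable {C : Type u} [SmallCategory C] {J : GrothendieckTopology C} (O : Sheaf J CommRingCat.{u})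

/-- the tensor product of two modules. -/
noncomputable abbrev tn (M N : ModSite.Mod O) : ModSite.Mod O :=
  ((ModSite.tensorBi O).obj M).obj N

/-- the free module. -/
noncomputable abbrev frr (I : Type u) : ModSite.Mod O :=
  SheafOfModules.free (R := ModSite.ringSh O) I

/-- `free I ⊗ free K ≅ free (I × K)`. -/
noncomputable def tensFreeIso (I K : Type u) : tn O (frr O I) (frr O K) ≅ frr O (I × K) :=
  (show tn O (frr O I) (frr O K) ≅
      ∐ fun _ : I => ((ModSite.tensorBi O).flip.obj (frr O K)).obj (ModSite.unit O) from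
    PreservesCoproduct.iso ((ModSite.tensorBi O).flip.obj (frr O K))
      (fun _ : I => ModSite.unit O)) ≪≫
  (Sigma.mapIso (fun _ : I => KT.tensorUnitIso O (frr O K)) :
    (∐ fun _ : I => ((ModSite.tensorBi O).flip.obj (frr O K)).obj (ModSite.unit O)) ≅
      ∐ fun _ : I => frr O K) ≪≫
  (show (∐ fun _ : I => frr O K) ≅ ∐ fun _ : (Σ _ : I, K) => ModSite.unit O from
    @sigmaSigmaIso (ModSite.Mod O) _ I (fun _ : I => K) (fun (_ : I) (_ : K) => ModSite.unit O)
      (fun _ => inferInstanceAs (HasCoproduct (fun _ : K => ModSite.unit O)))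
      (inferInstanceAs (HasCoproduct (fun _ : I => ∐ fun _ : K => ModSite.unit O)))) ≪≫
  (show (∐ fun _ : (Σ _ : I, K) => ModSite.unit O) ≅ frr O (I × K) from
    Sigma.whiskerEquiv (f := fun _ : (Σ _ : I, K) => ModSite.unit O)
      (g := fun _ : I × K => ModSite.unit O) (Equiv.sigmaEquivProd I K) (fun _ => Iso.refl _))

/-- `free (A ⊕ B)` maps onto `free A ⨿ free B`. -/
lemma exists_epi_free_sum (A B : Type u) :
    ∃ e : frr O (A ⊕ B) ⟶ frr O A ⨿ frr O B, Epi e := by
  obtain ⟨e, he⟩ : ∃ e : frr O (A ⊕ B) ⟶ frr O A ⨿ frr O B,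
      e = Sigma.desc (fun x : A ⊕ B =>
        Sum.elim (fun a => (SheafOfModules.ιFree a : _ ⟶ frr O A) ≫ coprod.inl)
          (fun b => (SheafOfModules.ιFree b : _ ⟶ frr O B) ≫ coprod.inr) x) := ⟨_, rfl⟩
  have he_inl : ∀ a : A, (SheafOfModules.ιFree (Sum.inl a) : _ ⟶ frr O (A ⊕ B)) ≫ e =
      (SheafOfModules.ιFree a : _ ⟶ frr O A) ≫ coprod.inl := by
    intro a
    rw [he]
    exact Sigma.ι_desc _ _
  have he_inr : ∀ b : B, (SheafOfModules.ιFree (Sum.inr b) : _ ⟶ frr O (A ⊕ B)) ≫ e =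
      (SheafOfModules.ιFree b : _ ⟶ frr O B) ≫ coprod.inr := by
    intro b
    rw [he]
    exact Sigma.ι_desc _ _
  refine ⟨e, ⟨fun {T} g h hgh => ?_⟩⟩
  apply coprod.hom_ext
  · refine Cofan.IsColimit.hom_ext (SheafOfModules.isColimitFreeCofan A) _ _ (fun a => ?_)
    show (SheafOfModules.ιFree a : _ ⟶ frr O A) ≫ coprod.inl ≫ g =
      (SheafOfModules.ιFree a : _ ⟶ frr O A) ≫ coprod.inl ≫ h
    rw [← Category.assoc, ← Category.assoc, ← he_inl a, Category.assoc, Category.assoc, hgh]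
  · refine Cofan.IsColimit.hom_ext (SheafOfModules.isColimitFreeCofan B) _ _ (fun b => ?_)
    show (SheafOfModules.ιFree b : _ ⟶ frr O B) ≫ coprod.inr ≫ g =
      (SheafOfModules.ιFree b : _ ⟶ frr O B) ≫ coprod.inr ≫ h
    rw [← Category.assoc, ← Category.assoc, ← he_inr b, Category.assoc, Category.assoc, hgh]

variable {O}

/-- `p ⊗ N`. -/
noncomputable abbrev tnL {M M' : ModSite.Mod O} (p : M ⟶ M') (N : ModSite.Mod O) :
    tn O M N ⟶ tn O M' N := ((ModSite.tensorBi O).map p).app N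

/-- `M ⊗ q`. -/
noncomputable abbrev tnR (M : ModSite.Mod O) {N N' : ModSite.Mod O} (q : N ⟶ N') :
    tn O M N ⟶ tn O M N' := ((ModSite.tensorBi O).obj M).map q

lemma tnL_tnR {M M' N N' : ModSite.Mod O} (p : M ⟶ M') (q : N ⟶ N') :
    tnL p N ≫ tnR M' q = tnR M q ≫ tnL p N' :=
  (((ModSite.tensorBi O).map p).naturality q).symm

lemma epi_tnL {M M' : ModSite.Mod O} (p : M ⟶ M') [Epi p] (N : ModSite.Mod O) : Epi (tnL p N) := by
  have : Epi (((ModSite.tensorBi O).flip.obj N).map p) := inferInstance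
  exact this

lemma epi_tnR (M : ModSite.Mod O) {N N' : ModSite.Mod O} (q : N ⟶ N') [Epi q] : Epi (tnR M q) := by
  have : Epi (((ModSite.tensorBi O).obj M).map q) := inferInstance
  exact this

lemma isCok_tnL {M' M M'' : ModSite.Mod O} {a : M' ⟶ M} {p : M ⟶ M''} (h : IsCok a p)
    (N : ModSite.Mod O) : IsCok (tnL a N) (tnL p N) :=
  h.map ((ModSite.tensorBi O).flip.obj N)

lemma isCok_tnR (M : ModSite.Mod O) {N' N N'' : ModSite.Mod O} {b : N' ⟶ N} {q : N ⟶ N''}
    (h : IsCok b q) : IsCok (tnR M b) (tnR M q) :=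
  h.map ((ModSite.tensorBi O).obj M)

theorem GenBy.tensor {I K : Type u} {M N : ModSite.Mod O} (hM : GenBy I M) (hN : GenBy K N) :
    GenBy (I × K) (tn O M N) := by
  obtain ⟨φ, hφ⟩ := hM
  obtain ⟨ψ, hψ⟩ := hN
  haveI := epi_tnL φ (frr O K)
  haveI := epi_tnR M ψ
  exact ⟨(tensFreeIso O I K).inv ≫ tnL φ (frr O K) ≫ tnR M ψ, inferInstance⟩

theorem FreeBy.tensor {I K : Type u} {M N : ModSite.Mod O} (hM : FreeBy I M) (hN : FreeBy K N) :
    FreeBy (I × K) (tn O M N) :=
  ⟨(tensFreeIso O I K).symm ≪≫ ((ModSite.tensorBi O).flip.obj (frr O K)).mapIso hM.some ≪≫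
    ((ModSite.tensorBi O).obj M).mapIso hN.some⟩

theorem PresBy.tensor {I' I K' K : Type u} {M N : ModSite.Mod O} (hM : PresBy I' I M)
    (hN : PresBy K' K N) : PresBy ((I' × K) ⊕ (I × K')) (I × K) (tn O M N) := by
  obtain ⟨a, p, hap⟩ := hM
  obtain ⟨b, q, hbq⟩ := hN
  haveI : Epi p := hap.epi
  -- step 1: `p ⊗ B` is the cokernel of `a ⊗ B`
  have h1 : IsCok (tnL a (frr O K)) (tnL p (frr O K)) := isCok_tnL hap _
  -- step 2: `M ⊗ q` is the cokernel of `(A ⊗ b) ≫ (p ⊗ B)`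
  have h2 : IsCok (tnR M b) (tnR M q) := isCok_tnR M hbq
  haveI := epi_tnL p (frr O K')
  have h3 : IsCok (tnL p (frr O K') ≫ tnR M b) (tnR M q) := h2.of_epi_comp _
  rw [tnL_tnR] at h3
  -- step 3: combine
  have h4 := IsCok.comp h1 h3
  -- step 4: transport to free modules
  have h5 := h4.iso_mid (tensFreeIso O I K)
  obtain ⟨e₀, he₀⟩ := exists_epi_free_sum O (I' × K) (I × K')
  let m : frr O (I' × K) ⨿ frr O (I × K') ⟶
      tn O (frr O I') (frr O K) ⨿ tn O (frr O I) (frr O K') :=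
    coprod.map (tensFreeIso O I' K).inv (tensFreeIso O I K').inv
  haveI : IsIso m := by
    dsimp only [m]
    infer_instance
  haveI : Epi (e₀ ≫ m) := epi_comp _ _
  have h6 := h5.of_epi_comp (e₀ ≫ m)
  exact ⟨_, _, h6⟩

end Tens

end Groth.Agent.LD.MS
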