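import Mathlib
import Groth.Prelude.Def_ModSite
import Groth.Agent.Lib.Lead.MS.Flat2

set_option autoImplicit false
universe u
open CategoryTheory Opposite Limits

namespace Groth.Agent.LD.MS

section General

variable {A B : Type*} [Category A] [Abelian A] [Category B] [Abelian B]

/-- the short complex `Z_i → M_i → Z_j` of kernels. -/
noncomputable def kerSC (M : ChainComplex A ℤ) (i j k : ℤ) : ShortComplex A :=
  ShortComplex.mk (kernel.ι (M.d i j)) (kernel.lift (M.d j k) (M.d i j) (M.d_comp_d i j k))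
    (by
      apply (cancel_mono (kernel.ι (M.d j k))).1
      rw [Category.assoc, kernel.lift_ι, kernel.condition, zero_comp])

theorem kerSC_shortExact (M : ChainComplex A ℤ) (i j k : ℤ)
    (hi : (ComplexShape.down ℤ).prev j = i) (hk : (ComplexShape.down ℤ).next j = k)
    (hac : M.ExactAt j) : (kerSC M i j k).ShortExact := by
  rw [HomologicalComplex.exactAt_iff' M i j k hi hk] at hac
  have hepi : Epi (kerSC M i j k).g := by
    have := (ShortComplex.exact_iff_epi_kernel_lift (M.sc' i j k)).1 hac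
    exact this
  have hmono : Mono (kerSC M i j k).f := by
    dsimp [kerSC]; infer_instance
  refine { exact := ?_, mono_f := hmono, epi_g := hepi }
  let S' : ShortComplex A := ShortComplex.mk (kernel.ι (M.d i j)) (M.d i j) (kernel.condition _)
  have hS' : S'.Exact := ShortComplex.exact_of_f_is_kernel S' (kernelIsKernel _)
  let φ : kerSC M i j k ⟶ S' :=
    { τ₁ := 𝟙 _
      τ₂ := 𝟙 _
      τ₃ := kernel.ι (M.d j k)
      comm₁₂ := by simp [kerSC, S']
      comm₂₃ := by simp [kerSC, S'] }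
  have : Epi φ.τ₁ := by
    show Epi (𝟙 (kernel (M.d i j)))
    infer_instance
  have : IsIso φ.τ₂ := by
    show IsIso (𝟙 (M.X i))
    infer_instance
  have : Mono φ.τ₃ := by
    show Mono (kernel.ι (M.d j k))
    infer_instance
  exact (ShortComplex.exact_iff_of_epi_of_isIso_of_mono φ).2 hS'

/-- Acyclic bounded below complexes with terms in a class `P` (closed under kernels of
epimorphisms, containing zero objects) are mapped to acyclic complexes by any additive functor
which preserves short exact sequences with cokernel in `P`. -/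
theorem acyclic_map_of_class (T : A ⥤ B) [T.Additive] (P : A → Prop)
    (hP0 : ∀ X, IsZero X → P X)
    (hP1 : ∀ S : ShortComplex A, S.ShortExact → P S.X₂ → P S.X₃ → P S.X₁)
    (hT : ∀ S : ShortComplex A, S.ShortExact → P S.X₃ → (S.map T).ShortExact)
    (M : ChainComplex A ℤ)
    (hb : ∃ i₀ : ℤ, ∀ i, i < i₀ → IsZero (M.X i)) (hM : ∀ i, P (M.X i)) (hac : M.Acyclic) :
    ((T.mapHomologicalComplex (ComplexShape.down ℤ)).obj M).Acyclic := by
  obtain ⟨i₀, hi₀⟩ := hb
  have hse : ∀ j : ℤ, (kerSC M (j + 1) j (j - 1)).ShortExact := fun j =>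
    kerSC_shortExact M (j + 1) j (j - 1) (ChainComplex.prev ℤ j) (ChainComplex.next ℤ j) (hac j)
  -- all cycles are in `P`
  have hZ : ∀ n : ℕ, P (kernel (M.d (i₀ - 1 + n) (i₀ - 1 + n - 1))) := by
    intro n
    induction n with
    | zero =>
      apply hP0
      have h0 : IsZero (M.X (i₀ - 1 + (0 : ℕ))) := hi₀ _ (by simp)
      exact IsZero.of_mono (kernel.ι _) h0
    | succ n ih =>
      have h1 := hse (i₀ - 1 + n)
      have h2 := hP1 _ h1 (hM _) ih
      have e : i₀ - 1 + ((n + 1 : ℕ) : ℤ) = i₀ - 1 + n + 1 := by push_cast; ring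
      have e' : i₀ - 1 + ((n + 1 : ℕ) : ℤ) - 1 = i₀ - 1 + n := by push_cast; ring
      rw [e, show i₀ - 1 + (n : ℤ) + 1 - 1 = i₀ - 1 + n by ring]
      exact h2
  have hZ' : ∀ j : ℤ, P (kernel (M.d j (j - 1))) := by
    intro j
    by_cases hj : j < i₀
    · apply hP0
      exact IsZero.of_mono (kernel.ι _) (hi₀ j hj)
    · have : j = i₀ - 1 + ((j - i₀ + 1).toNat : ℤ) := by
        rw [Int.toNat_of_nonneg (by omega)]; ring
      rw [this]
      exact hZ _
  have hse' : ∀ i j k : ℤ, i = j + 1 → k = j - 1 → (kerSC M i j k).ShortExact := by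
    intro i j k hi hk
    subst hi hk
    exact hse j
  have hZ'' : ∀ j k : ℤ, k = j - 1 → P (kernel (M.d j k)) := by
    intro j k hk
    subst hk
    exact hZ' j
  intro j
  rw [HomologicalComplex.exactAt_iff' _ (j + 1) j (j - 1) (ChainComplex.prev ℤ j)
    (ChainComplex.next ℤ j)]
  generalize hi : j + 1 = i
  generalize hk : j - 1 = k
  obtain ⟨l, hl⟩ : ∃ l : ℤ, l = k - 1 := ⟨_, rfl⟩
  obtain ⟨m, hm⟩ : ∃ m : ℤ, m = l - 1 := ⟨_, rfl⟩
  -- the three mapped short exact sequences
  have ha := hT _ (hse' j k l (by omega) hl) (hZ'' k l hl)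
  have hb := hT _ (hse' i j k hi.symm hk.symm) (hZ'' j k hk.symm)
  have hc := hT _ (hse' k l m (by omega) hm) (hZ'' l m hm)
  let Sb : ShortComplex B := ShortComplex.mk (T.map (M.d i j))
    (T.map (kernel.lift (M.d k l) (M.d j k) (M.d_comp_d j k l)))
    (by
      rw [← T.map_comp]
      have : M.d i j ≫ kernel.lift (M.d k l) (M.d j k) (M.d_comp_d j k l) = 0 := by
        apply (cancel_mono (kernel.ι (M.d k l))).1
        rw [Category.assoc, kernel.lift_ι, zero_comp, M.d_comp_d]
      rw [this, T.map_zero])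
  let φ₁ : Sb ⟶ (kerSC M j k l).map T :=
    { τ₁ := T.map (kernel.lift (M.d j k) (M.d i j) (M.d_comp_d i j k))
      τ₂ := 𝟙 _
      τ₃ := 𝟙 _
      comm₁₂ := by
        show T.map _ ≫ T.map (kernel.ι (M.d j k)) = T.map (M.d i j) ≫ 𝟙 _
        rw [← T.map_comp, kernel.lift_ι, Category.comp_id]
      comm₂₃ := by
        show 𝟙 _ ≫ T.map _ = T.map _ ≫ 𝟙 _
        rw [Category.id_comp, Category.comp_id]
        rfl }
  have h1 : Epi φ₁.τ₁ := hb.epi_g
  have h2 : IsIso φ₁.τ₂ := by
    show IsIso (𝟙 (T.obj (M.X j)))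
    infer_instance
  have h3 : Mono φ₁.τ₃ := by
    show Mono (𝟙 (T.obj (kernel (M.d k l))))
    infer_instance
  have hSb : Sb.Exact := (ShortComplex.exact_iff_of_epi_of_isIso_of_mono φ₁).2 ha.exact
  let φ₂ : Sb ⟶ ((T.mapHomologicalComplex (ComplexShape.down ℤ)).obj M).sc' i j k :=
    { τ₁ := 𝟙 _
      τ₂ := 𝟙 _
      τ₃ := T.map (kernel.ι (M.d k l))
      comm₁₂ := by
        show 𝟙 _ ≫ T.map (M.d i j) = T.map (M.d i j) ≫ 𝟙 _
        rw [Category.id_comp, Category.comp_id]
      comm₂₃ := by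
        show 𝟙 _ ≫ T.map (M.d j k) = T.map _ ≫ T.map (kernel.ι (M.d k l))
        rw [Category.id_comp, ← T.map_comp, kernel.lift_ι] }
  have h4 : Epi φ₂.τ₁ := by
    show Epi (𝟙 (T.obj (M.X i)))
    infer_instance
  have h5 : IsIso φ₂.τ₂ := by
    show IsIso (𝟙 (T.obj (M.X j)))
    infer_instance
  have h6 : Mono φ₂.τ₃ := hc.mono_f
  exact (ShortComplex.exact_iff_of_epi_of_isIso_of_mono φ₂).1 hSb

end General

end Groth.Agent.LD.MS
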