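import Groth.Agent.Lib.Lead.MS.TensorElem
import Groth.Agent.Lib.Lead.EZ.ProjStmts
import Groth.Agent.Lib.Lead.RSp.SlicePres

/-! # The equational criterion of flatness for sheaves of modules on a site (vector form). -/

set_option autoImplicit false
universe u
open CategoryTheory Opposite MonoidalCategory Limits TensorProduct

namespace Groth.Agent.LD.MS

variable {C : Type u} [SmallCategory C] {J : GrothendieckTopology C} {O : Sheaf J CommRingCat.{u}}

/-- the finite free module. -/
noncomputable abbrev fr (I : Type u) : ModSite.Mod O :=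
  SheafOfModules.free (R := ModSite.ringSh O) I

/-- tensoring with `H` on the right. -/
noncomputable abbrev tensR (H : ModSite.Mod O) : ModSite.Mod O ⥤ ModSite.Mod O :=
  (ModSite.tensorBi O).flip.obj H

lemma tensMap_sum {P P' : ModSite.Mod O} (f : P ⟶ P') (H : ModSite.Mod O) {V : C} {ι : Type*}
    (s : Finset ι) (p : ι → P.val.obj (op V)) (q : ι → H.val.obj (op V)) :
    RSp.evAt _ _ V ((tensR H).map f) (∑ k ∈ s, τ P H (p k) (q k)) =
      ∑ k ∈ s, τ P' H (f.val.app (op V) (p k)) (q k) :=
  (map_sum (RSp.evAt _ _ V ((tensR H).map f)) _ s).trans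
    (Finset.sum_congr rfl fun k _ => tensMap_τ f H _ _)

section Terminal
variable {T : C} (hT : IsTerminal T) (I K : Type u) [Fintype I] [DecidableEq I] [Fintype K]
  [DecidableEq K] (a : I → K → (ModSite.ringSh O).obj.obj (op T))

/-- the transpose of the matrix `a`, as a map of free modules. -/
noncomputable def AT : fr (O := O) I ⟶ fr (O := O) K :=
  (fr (O := O) K).freeHomEquiv.symm (fun i => RSp.secOfTerminal hT (fr (O := O) K)
    (∑ j, a i j • RSp.bas (ModSite.ringSh O) K j T))

lemma AT_bas (i : I) (U : C) :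
    RSp.evAt _ _ U (AT hT I K a) (RSp.bas (ModSite.ringSh O) I i U) =
      ∑ j, ((ModSite.ringSh O).obj.map (hT.from U).op (a i j) :
        (ModSite.ringSh O).obj.obj (op U)) • RSp.bas (ModSite.ringSh O) K j U := by
  unfold AT
  rw [RSp.freeHom_bas, RSp.secOfTerminal_eval, RSp.rs_sum]
  refine Finset.sum_congr rfl fun j _ => ?_
  rw [RSp.rs_smul, RSp.rs_bas]

lemma coord_AT (U : C) (z : (fr (O := O) I).val.obj (op U)) (j : K) :
    RSp.coord (ModSite.ringSh O) K j U (RSp.evAt _ _ U (AT hT I K a) z) =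
      ∑ i, RSp.coord (ModSite.ringSh O) I i U z *
        ((ModSite.ringSh O).obj.map (hT.from U).op (a i j) :
          (ModSite.ringSh O).obj.obj (op U)) := by
  have hz := RSp.eq_sum_coord_bas (ModSite.ringSh O) I U z
  have h1 : RSp.evAt _ _ U (AT hT I K a) z =
      ∑ i, RSp.coord (ModSite.ringSh O) I i U z •
        ∑ j', ((ModSite.ringSh O).obj.map (hT.from U).op (a i j') :
          (ModSite.ringSh O).obj.obj (op U)) • RSp.bas (ModSite.ringSh O) K j' U := by
    conv_lhs => rw [hz]
    rw [map_sum]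
    refine Finset.sum_congr rfl fun i _ => ?_
    rw [map_smul, AT_bas]
  rw [h1, map_sum]
  refine Finset.sum_congr rfl fun i _ => ?_
  rw [map_smul, RSp.coord_sum_bas, smul_eq_mul]

include hT in
/-- **Equational criterion of flatness**, over a terminal object, for a system of relations. -/
theorem eqCrit_terminal (H : ModSite.Mod O) (hH : ModSite.IsFlat H)
    (s : I → H.val.obj (op T)) (hrel : ∀ j, ∑ i, a i j • s i = 0) :
    ∃ S ∈ J T, ∀ ⦃V : C⦄ (g : V ⟶ T), S g →
      ∃ (r : ℕ) (κ : Fin r → I → (ModSite.ringSh O).obj.obj (op V))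
        (t : Fin r → H.val.obj (op V)),
        (∀ i, RSp.rs H g (s i) = ∑ k, κ k i • t k) ∧
        ∀ k j, ∑ i, κ k i * ((ModSite.ringSh O).obj.map g.op (a i j) :
          (ModSite.ringSh O).obj.obj (op V)) = 0 := by
  classical
  haveI : PreservesFiniteLimits (tensR H) := hH.1
  haveI : (tensR H).PreservesMonomorphisms := preservesMono_flip_of_isFlat hH
  obtain ⟨σ, hσ⟩ : ∃ σ : (tens (fr (O := O) I) H).val.obj (op T),
      σ = ∑ i, τ (fr (O := O) I) H (RSp.bas (ModSite.ringSh O) I i T) (s i) := ⟨_, rfl⟩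
  have hAT_T : ∀ i, RSp.evAt _ _ T (AT hT I K a) (RSp.bas (ModSite.ringSh O) I i T) =
      ∑ j, a i j • RSp.bas (ModSite.ringSh O) K j T := by
    intro i
    have hid : hT.from T = 𝟙 T := hT.hom_ext _ _
    unfold AT
    rw [RSp.freeHom_bas, RSp.secOfTerminal_eval, hid, RSp.rs_id]
  have h1 : RSp.evAt _ _ T ((tensR H).map (AT hT I K a)) σ = 0 := by
    rw [hσ]
    refine (tensMap_sum (AT hT I K a) H Finset.univ _ _).trans ?_
    have e1 : ∀ i, τ (fr (O := O) K) H ((AT hT I K a).val.app (op T)
        (RSp.bas (ModSite.ringSh O) I i T)) (s i) =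
        ∑ j, τ (fr (O := O) K) H (RSp.bas (ModSite.ringSh O) K j T) (a i j • s i) := by
      intro i
      have e2 : (AT hT I K a).val.app (op T) (RSp.bas (ModSite.ringSh O) I i T) =
          ∑ j, a i j • RSp.bas (ModSite.ringSh O) K j T := hAT_T i
      rw [e2, τ_sum_left]
      refine Finset.sum_congr rfl fun j _ => ?_
      rw [τ_smul_left, τ_smul_right]
    refine (Finset.sum_congr rfl (fun i _ => e1 i)).trans ?_
    rw [Finset.sum_comm]
    refine Finset.sum_eq_zero fun j _ => ?_
    rw [← τ_sum_right, hrel j, τ_zero_right]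
  let S₀ : ShortComplex (ModSite.Mod O) :=
    ShortComplex.mk (kernel.ι (AT hT I K a)) (AT hT I K a) (kernel.condition (AT hT I K a))
  have hS₀ : S₀.Exact := ShortComplex.exact_of_f_is_kernel _ (kernelIsKernel (AT hT I K a))
  haveI : Mono S₀.f := inferInstanceAs (Mono (kernel.ι (AT hT I K a)))
  have hS : (S₀.map (tensR H)).Exact :=
    hS₀.map_of_mono_of_preservesKernel (tensR H) inferInstance inferInstance
  haveI : Mono (S₀.map (tensR H)).f :=
    inferInstanceAs (Mono ((tensR H).map (kernel.ι (AT hT I K a))))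
  obtain ⟨x, hx⟩ := RSp.exists_of_exact hS T σ h1
  obtain ⟨Sx, hSx, hSx'⟩ := exists_local_pure (kernel (AT hT I K a)) H x
  refine ⟨Sx, hSx, fun V g hg => ?_⟩
  have hg' : g = hT.from V := hT.hom_ext _ _
  subst hg'
  obtain ⟨r, κ', t, hκ⟩ := hSx' _ hg
  let z : Fin r → (fr (O := O) I).val.obj (op V) :=
    fun k => RSp.evAt _ _ V (kernel.ι (AT hT I K a)) (κ' k)
  refine ⟨r, fun k i => RSp.coord (ModSite.ringSh O) I i V (z k), t, ?_, ?_⟩
  · intro i
    have hσ1 : RSp.rs (tens (fr (O := O) I) H) (hT.from V) σ =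
        ∑ i', τ (fr (O := O) I) H (RSp.bas (ModSite.ringSh O) I i' V)
          (RSp.rs H (hT.from V) (s i')) := by
      rw [hσ, RSp.rs_sum]
      refine Finset.sum_congr rfl fun i' _ => ?_
      rw [rs_τ, RSp.rs_bas]
    have hσ2 : RSp.rs (tens (fr (O := O) I) H) (hT.from V) σ =
        ∑ k, τ (fr (O := O) I) H (z k) (t k) := by
      have e := RSp.app_rs ((tensR H).map (kernel.ι (AT hT I K a))) (hT.from V) x
      have e' : RSp.rs (tens (fr (O := O) I) H) (hT.from V) σ =
          RSp.evAt _ _ V ((tensR H).map (kernel.ι (AT hT I K a)))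
            (RSp.rs (tens (kernel (AT hT I K a)) H) (hT.from V) x) := by
        rw [← hx]
        exact e.symm
      rw [e', hκ]
      exact tensMap_sum (kernel.ι (AT hT I K a)) H Finset.univ κ' t
    obtain ⟨ev, hevdef⟩ : ∃ ev : tens (fr (O := O) I) H ⟶ H,
        ev = (tensR H).map (RSp.proj (ModSite.ringSh O) I i) ≫ (KT.tensorUnitIso O H).hom :=
      ⟨_, rfl⟩
    have hev : ∀ (z' : (fr (O := O) I).val.obj (op V)) (q : H.val.obj (op V)),
        RSp.evAt _ _ V ev (τ (fr (O := O) I) H z' q) =
          RSp.coord (ModSite.ringSh O) I i V z' • q := by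
      intro z' q
      have e1 : RSp.evAt _ _ V ev (τ (fr (O := O) I) H z' q) =
          (KT.tensorUnitIso O H).hom.val.app (op V)
            (((tensR H).map (RSp.proj (ModSite.ringSh O) I i)).val.app (op V)
              (τ (fr (O := O) I) H z' q)) := by
        rw [hevdef]
        rfl
      rw [e1, tensMap_τ]
      exact tensorUnitIso_τ H _ q
    have h5 := congrArg (RSp.evAt _ _ V ev) (hσ1.symm.trans hσ2)
    rw [map_sum, map_sum] at h5
    have h6 : ∑ i', RSp.evAt _ _ V ev (τ (fr (O := O) I) H (RSp.bas (ModSite.ringSh O) I i' V)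
        (RSp.rs H (hT.from V) (s i'))) = RSp.rs H (hT.from V) (s i) := by
      rw [Finset.sum_eq_single i]
      · rw [hev, RSp.coord_bas, if_pos rfl, one_smul]
      · intro i' _ hne
        rw [hev, RSp.coord_bas, if_neg hne, zero_smul]
      · intro h
        exact absurd (Finset.mem_univ i) h
    rw [h6] at h5
    rw [h5]
    refine Finset.sum_congr rfl fun k _ => ?_
    exact hev (z k) (t k)
  · intro k j
    have h7 := coord_AT hT I K a V (z k) j
    have h8 : RSp.evAt _ _ V (AT hT I K a) (z k) = 0 :=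
      RSp.kernel_ι_app (AT hT I K a) V (κ' k)
    rw [h8, map_zero] at h7
    exact h7.symm

end Terminal

end Groth.Agent.LD.MS
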