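import Groth.Agent.Lib.Lead.MS.EqCrit
import Groth.Agent.Lib.Lead.RSp.DescOver

/-! # A morphism from a finitely presented module to a flat module factors locally through a
finite free module. -/

set_option autoImplicit false
universe u
open CategoryTheory Opposite MonoidalCategory Limits TensorProduct

namespace Groth.Agent.LD.MS

variable {C : Type u} [SmallCategory C] {J : GrothendieckTopology C} {O : Sheaf J CommRingCat.{u}}

/-- **Equational criterion of flatness** over an object `U`. -/
theorem eqCrit (H : ModSite.Mod O) (hH : ModSite.IsFlat H) (U : C) (I K : Type u)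
    [Fintype I] [DecidableEq I] [Fintype K] [DecidableEq K]
    (a : I → K → (ModSite.ringSh O).obj.obj (op U)) (s : I → H.val.obj (op U))
    (hrel : ∀ j, ∑ i, a i j • s i = 0) :
    ∃ S ∈ J U, ∀ ⦃V : C⦄ (g : V ⟶ U), S g →
      ∃ (r : ℕ) (κ : Fin r → I → (ModSite.ringSh O).obj.obj (op V))
        (t : Fin r → H.val.obj (op V)),
        (∀ i, RSp.rs H g (s i) = ∑ k, κ k i • t k) ∧
        ∀ k j, ∑ i, κ k i * ((ModSite.ringSh O).obj.map g.op (a i j) :
          (ModSite.ringSh O).obj.obj (op V)) = 0 := by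
  have hH' := EZ.isFlat_restr O U H hH
  let a' : I → K → (ModSite.ringSh (O.over U)).obj.obj (op (Over.mk (𝟙 U))) := a
  let s' : I → ((ModSite.restr O U).obj H).val.obj (op (Over.mk (𝟙 U))) := s
  have hrel' : ∀ j, ∑ i, a' i j • s' i = 0 := hrel
  obtain ⟨S', hS', h⟩ := eqCrit_terminal (O := O.over U) (RSp.overTerminal U) I K a'
    ((ModSite.restr O U).obj H) hH' s' hrel'
  rw [GrothendieckTopology.mem_over_iff] at hS'
  refine ⟨Sieve.overEquiv (Over.mk (𝟙 U)) S', hS', ?_⟩
  intro V g hg
  rw [Sieve.overEquiv_iff] at hg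
  obtain ⟨r, κ, t, h1, h2⟩ := h _ hg
  exact ⟨r, κ, t, h1, h2⟩

section TerminalFactor
variable {C' : Type u} [SmallCategory C'] {J' : GrothendieckTopology C'} {R : Sheaf J' RingCat.{u}}

/-- over a site with terminal object `T`: if `α` sends the generators `e l` of `M` to
`∑ k, κ k l • bas k` and `φ (e l) = ∑ k, κ k l • t k`, then `α ≫ (t) = φ`. -/
theorem comp_eq_of_terminal_data {T : C'} (hT : IsTerminal T) {M N : SheafOfModules.{u} R}
    {I K : Type u} [Fintype K] [DecidableEq K]
    (e : I → M.val.obj (op T))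
    (hπ : Epi (M.freeHomEquiv.symm (fun l => RSp.secOfTerminal hT M (e l))))
    (φ : M ⟶ N) (κ : K → I → R.obj.obj (op T)) (t : K → N.val.obj (op T))
    (hφ : ∀ l, φ.val.app (op T) (e l) = ∑ k, κ k l • t k)
    (α : M ⟶ SheafOfModules.free (R := R) K)
    (hα : M.freeHomEquiv.symm (fun l => RSp.secOfTerminal hT M (e l)) ≫ α =
      (SheafOfModules.free (R := R) K).freeHomEquiv.symm
        (fun l => RSp.secOfTerminal hT _ (∑ k, κ k l • RSp.bas R K k T))) :
    α ≫ N.freeHomEquiv.symm (fun k => RSp.secOfTerminal hT N (t k)) = φ := by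
  haveI := hπ
  rw [← cancel_epi (M.freeHomEquiv.symm (fun l => RSp.secOfTerminal hT M (e l))),
    ← Category.assoc, hα, SheafOfModules.freeHomEquiv_symm_comp,
    SheafOfModules.freeHomEquiv_symm_comp]
  congr 1
  funext l
  rw [RSp.sectionsMap_secOfTerminal, RSp.sectionsMap_secOfTerminal, hφ l]
  congr 1
  refine (RSp.freeHom_sum_bas R K N (fun k => RSp.secOfTerminal hT N (t k)) T
    (fun k => κ k l)).trans ?_
  refine Finset.sum_congr rfl fun k _ => ?_
  rw [RSp.secOfTerminal_eval]
  congr 1
  have h1 : hT.from T = 𝟙 T := hT.hom_ext _ _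
  rw [h1, RSp.rs_id]

end TerminalFactor

/-- **S6167**. -/
theorem exists_local_factor (F H : ModSite.Mod O) [F.IsFinitePresentation]
    (hH : ModSite.IsFlat H) (φ : F ⟶ H) (X : C) :
    ∃ (ι : Type u) (Y : ι → C) (g : ∀ i, Y i ⟶ X), Sieve.ofArrows Y g ∈ J X ∧
      ∀ i, ∃ (n : ℕ) (a : (ModSite.restr O (Y i)).obj F ⟶ SheafOfModules.free (ULift.{u} (Fin n)))
        (b : SheafOfModules.free (ULift.{u} (Fin n)) ⟶ (ModSite.restr O (Y i)).obj H),
        a ≫ b = (ModSite.restr O (Y i)).map φ := by
  classical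
  obtain ⟨σ, hσ⟩ := SheafOfModules.IsFinitePresentation.exists_quasicoherentData F
  obtain ⟨Good, hGood⟩ : ∃ Good : C → Prop, ∀ V, Good V ↔
      ∃ (n : ℕ) (a : (ModSite.restr O V).obj F ⟶ SheafOfModules.free (ULift.{u} (Fin n)))
        (b : SheafOfModules.free (ULift.{u} (Fin n)) ⟶ (ModSite.restr O V).obj H),
        a ≫ b = (ModSite.restr O V).map φ := ⟨_, fun _ => Iff.rfl⟩
  have key : ∀ i : σ.I, ∃ S ∈ J (σ.X i), ∀ ⦃V : C⦄ (g : V ⟶ σ.X i), S g → Good V := by
    intro i
    have hfin := hσ.isFinite_presentation i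
    haveI : Finite (σ.presentation i).generators.I := hfin.isFiniteType_generators.finite
    haveI : Finite (σ.presentation i).relations.I := hfin.isFiniteType_relations.finite
    letI := Fintype.ofFinite (σ.presentation i).generators.I
    letI := Fintype.ofFinite (σ.presentation i).relations.I
    obtain ⟨ρ, hρ1, hρ2⟩ := RSp.relSieveOver_mem_of_presentation F (σ.X i) (σ.presentation i)
    have hgenEpi : Epi ((F.over (σ.X i)).freeHomEquiv.symm
        (fun k => RSp.secOver F (σ.X i)
          (RSp.evalId F (σ.X i) ((σ.presentation i).generators.s k)))) := by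
      have e1 : (fun k => RSp.secOver F (σ.X i)
          (RSp.evalId F (σ.X i) ((σ.presentation i).generators.s k))) =
          (σ.presentation i).generators.s :=
        funext fun k => RSp.secOver_evalId F (σ.X i) _
      rw [e1]
      exact (σ.presentation i).generators.epi
    have hrelH : ∀ j, ∑ k, ρ j k • RSp.evAt _ _ (σ.X i) φ
        (RSp.evalId F (σ.X i) ((σ.presentation i).generators.s k)) = 0 := by
      intro j
      refine (Finset.sum_congr rfl fun k _ =>
        (map_smul (RSp.evAt _ _ (σ.X i) φ) (ρ j k) _).symm).trans ?_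
      rw [← map_sum, hρ1 j, map_zero]
    obtain ⟨S, hS, hS'⟩ := eqCrit H hH (σ.X i) (σ.presentation i).generators.I
      (σ.presentation i).relations.I (fun k j => ρ j k)
      (fun k => RSp.evAt _ _ (σ.X i) φ
        (RSp.evalId F (σ.X i) ((σ.presentation i).generators.s k))) hrelH
    refine ⟨S, hS, fun V g hg => ?_⟩
    obtain ⟨r, κ, t, hst, hκ⟩ := hS' g hg
    rw [hGood]
    -- data on the slice over `V`
    let κ' : ULift.{u} (Fin r) → (σ.presentation i).generators.I →
        ((ModSite.ringSh O).over V).obj.obj (op (Over.mk (𝟙 V))) := fun k l => κ k.down l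
    let w : (σ.presentation i).generators.I →
        (SheafOfModules.free (R := (ModSite.ringSh O).over V) (ULift.{u} (Fin r))).val.obj
          (op (Over.mk (𝟙 V))) :=
      fun l => ∑ k, κ' k l • RSp.bas ((ModSite.ringSh O).over V) (ULift.{u} (Fin r)) k
        (Over.mk (𝟙 V))
    let ρV : (σ.presentation i).relations.I → (σ.presentation i).generators.I →
        ((ModSite.ringSh O).over V).obj.obj (op (Over.mk (𝟙 V))) :=
      fun j l => (ModSite.ringSh O).obj.map g.op (ρ j l)
    have hw : ∀ j, ∑ l, ρV j l • w l = 0 := by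
      intro j
      have e1 : ∑ l, ρV j l • w l = ∑ k, (∑ l, ρV j l * κ' k l) •
          RSp.bas ((ModSite.ringSh O).over V) (ULift.{u} (Fin r)) k (Over.mk (𝟙 V)) := by
        simp only [w, Finset.smul_sum, smul_smul, Finset.sum_smul]
        rw [Finset.sum_comm]
      rw [e1]
      refine Finset.sum_eq_zero fun k _ => ?_
      have e2 : ∑ l, ρV j l * κ' k l = 0 := by
        refine Eq.trans (Finset.sum_congr rfl fun l _ => ?_) (hκ k.down j)
        have hc : ∀ (x y : O.obj.obj (op V)), x * y = y * x := fun x y => mul_comm x y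
        exact hc (ρV j l) (κ' k l)
      rw [e2, zero_smul]
    obtain ⟨α, hα⟩ := RSp.exists_desc_over F g
      (fun k => RSp.evalId F (σ.X i) ((σ.presentation i).generators.s k)) ρ
      (fun h t => RSp.locGen_of_epi F (σ.X i) _ hgenEpi h t) (fun h c hc => hρ2 h c hc)
      (SheafOfModules.free (R := (ModSite.ringSh O).over V) (ULift.{u} (Fin r))) w ρV
      (fun j l => rfl) hw
    -- generators over the terminal object of the slice
    let e' : (σ.presentation i).generators.I → (F.over V).val.obj (op (Over.mk (𝟙 V))) :=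
      fun l => RSp.rs F g (RSp.evalId F (σ.X i) ((σ.presentation i).generators.s l))
    let t' : ULift.{u} (Fin r) → (H.over V).val.obj (op (Over.mk (𝟙 V))) := fun k => t k.down
    obtain ⟨sF, hsF⟩ : ∃ sF : (σ.presentation i).generators.I → (F.over V).sections,
        sF = fun l => RSp.secOver F V (RSp.rs F g
          (RSp.evalId F (σ.X i) ((σ.presentation i).generators.s l))) := ⟨_, rfl⟩
    have hπ : Epi ((F.over V).freeHomEquiv.symm sF) := by
      rw [hsF]
      apply RSp.epi_of_locGen F V
      intro V' h x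
      obtain ⟨S₁, hS₁, hS₁'⟩ := RSp.locGen_of_epi F (σ.X i) _ hgenEpi (h ≫ g) x
      refine ⟨S₁, hS₁, fun W g₁ hg₁ => ?_⟩
      obtain ⟨c, hc⟩ := hS₁' g₁ hg₁
      refine ⟨c, hc.trans (Finset.sum_congr rfl fun l _ => ?_)⟩
      rw [RSp.rs_rs, Category.assoc]
    have hα' : (F.over V).freeHomEquiv.symm sF ≫ α =
        (SheafOfModules.free (R := (ModSite.ringSh O).over V)
          (ULift.{u} (Fin r))).freeHomEquiv.symm
        (fun l => RSp.secOfTerminal (RSp.overTerminal V) _ (w l)) := by
      rw [hsF]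
      exact hα
    have hsF' : sF = fun l => RSp.secOfTerminal (RSp.overTerminal V) (F.over V) (e' l) :=
      hsF.trans (funext fun l => RSp.secOver_eq_secOfTerminal F V _)
    clear hsF hα
    subst hsF'
    have hφ' : ∀ l, ((SheafOfModules.overFunctor (ModSite.ringSh O) V).map φ).val.app
        (op (Over.mk (𝟙 V))) (e' l) = ∑ k, κ' k l • t' k := by
      intro l
      have e7 : φ.val.app (op V) (RSp.rs F g
          (RSp.evalId F (σ.X i) ((σ.presentation i).generators.s l))) =
          ∑ k : Fin r, κ k l • t k := by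
        rw [RSp.app_rs]
        exact hst l
      have e6 : (∑ k : ULift.{u} (Fin r), κ k.down l • t k.down : H.val.obj (op V)) =
          ∑ k : Fin r, κ k l • t k :=
        Equiv.sum_comp Equiv.ulift (fun k : Fin r => κ k l • t k)
      exact e7.trans e6.symm
    have hfin := comp_eq_of_terminal_data (RSp.overTerminal V) (M := F.over V) (N := H.over V)
      e' hπ ((SheafOfModules.overFunctor (ModSite.ringSh O) V).map φ) κ' t' hφ' α hα'
    exact ⟨r, α, _, hfin⟩
  refine ⟨{p : Σ V : C, (V ⟶ X) // Good p.1}, fun p => p.1.1, fun p => p.1.2, ?_,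
    fun p => (hGood _).1 p.2⟩
  apply J.transitive (σ.coversTop X)
  intro W f hf
  obtain ⟨i, ⟨h⟩⟩ := hf
  obtain ⟨S, hS, hS'⟩ := key i
  refine J.superset_covering ?_ (J.pullback_stable h hS)
  intro V g hg
  have hgood : Good V := hS' (g ≫ h) hg
  have hmk := Sieve.ofArrows_mk (fun p : {p : Σ V : C, (V ⟶ X) // Good p.1} => p.1.1)
    (fun p => p.1.2) ⟨⟨V, g ≫ f⟩, hgood⟩
  exact hmk

end Groth.Agent.LD.MS
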