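import Mathlib
import Groth.Prelude.Def_ModSite
import Groth.Prelude.Def_AlgSpPerf

/-! # Direct summands of finite free modules on a ringed site with a final object
and finite projective modules over the ring of global sections -/

set_option autoImplicit false
universe u
open CategoryTheory Limits Opposite

namespace Groth.Agent.LD.MS.FinProj

variable {C : Type u} [SmallCategory C] {J : GrothendieckTopology C} {R : Sheaf J RingCat.{u}}
  {X : C} (hX : IsTerminal X)

open SheafOfModules

/-- the section with a given value at the terminal object. -/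
noncomputable def secOfVal (M : SheafOfModules.{u} R) (x : M.val.obj (op X)) : M.sections :=
  PresheafOfModules.sectionsMk (fun U => M.val.map (hX.from U.unop).op x) (fun U V f => by
    rw [← PresheafOfModules.map_comp_apply]
    exact PresheafOfModules.congr_map_apply _ (Quiver.Hom.unop_inj (hX.hom_ext _ _)) x)

include hX in
lemma secOfVal_val (M : SheafOfModules.{u} R) (x : M.val.obj (op X)) :
    (secOfVal hX M x).val (op X) = x := by
  change M.val.map (hX.from X).op x = x
  have h : (hX.from X).op = 𝟙 (op X) := Quiver.Hom.unop_inj (hX.hom_ext _ _)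
  rw [PresheafOfModules.congr_map_apply _ h]
  simp

include hX in
lemma sections_ext_terminal (M : SheafOfModules.{u} R) (s t : M.sections)
    (h : s.val (op X) = t.val (op X)) : s = t := by
  apply PresheafOfModules.sections_ext
  intro U
  rw [← PresheafOfModules.sections_property s (hX.from U.unop).op,
    ← PresheafOfModules.sections_property t (hX.from U.unop).op, h]

variable (R X) in
/-- the generators of the sections of a free module over the terminal object. -/
noncomputable def gen {I : Type u} (k : I) : (free (R := R) I).val.obj (op X) :=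
  (freeSection (R := R) k).val (op X)

lemma gen_eq {I : Type u} (k : I) :
    gen R X k = (ιFree (R := R) k).val.app (op X) (1 : R.obj.obj (op X)) := by
  have h := unitHomEquiv_symm_freeHomEquiv_apply (𝟙 (free (R := R) I)) k
  rw [Category.comp_id] at h
  have h2 : freeSection (R := R) k = (free (R := R) I).unitHomEquiv (ιFree k) := by
    rw [← h, Equiv.apply_symm_apply]
  change (freeSection (R := R) k).val (op X) = _
  rw [h2]
  rfl

include hX in
/-- a morphism from a free module is determined by the images of the generators. -/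
lemma free_hom_ext {I : Type u} {M : SheafOfModules.{u} R} (g h : free (R := R) I ⟶ M)
    (H : ∀ k, g.val.app (op X) (gen R X k) = h.val.app (op X) (gen R X k)) : g = h := by
  apply (freeHomEquiv M).injective
  funext k
  rw [freeHomEquiv_apply, freeHomEquiv_apply]
  exact sections_ext_terminal hX M _ _ (H k)

include hX in
lemma exists_free_hom {I : Type u} (M : SheafOfModules.{u} R) (y : I → M.val.obj (op X)) :
    ∃ g : free (R := R) I ⟶ M, ∀ k, g.val.app (op X) (gen R X k) = y k := by
  refine ⟨(freeHomEquiv M).symm (fun k => secOfVal hX M (y k)), fun k => ?_⟩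
  have h := sectionsMap_freeHomEquiv_symm_freeSection (fun k => secOfVal hX M (y k)) k
  have h2 := congrArg (fun s : M.sections => s.val (op X)) h
  exact h2.trans (secOfVal_val hX M (y k))

variable (X) in
/-- evaluation of morphisms at the terminal object, as an additive map. -/
noncomputable def evHom (M N : SheafOfModules.{u} R) :
    (M ⟶ N) →+ (M.val.obj (op X) →ₗ[R.obj.obj (op X)] N.val.obj (op X)) where
  toFun f := (f.val.app (op X)).hom
  map_zero' := rfl
  map_add' _ _ := rfl

lemma evHom_apply {M N : SheafOfModules.{u} R} (f : M ⟶ N) (x : M.val.obj (op X)) :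
    evHom X M N f x = f.val.app (op X) x := rfl

lemma evHom_comp {M N P : SheafOfModules.{u} R} (f : M ⟶ N) (g : N ⟶ P) :
    evHom X M P (f ≫ g) = (evHom X N P g).comp (evHom X M N f) := rfl

lemma evHom_id (M : SheafOfModules.{u} R) : evHom X M M (𝟙 M) = LinearMap.id := rfl

section Finite

variable (R X) in
/-- sections of the unit module at `X`, as the ring itself. -/
noncomputable def unitEv :
    (unit R).val.obj (op X) ≃ₗ[R.obj.obj (op X)] R.obj.obj (op X) :=
  LinearEquiv.refl _ _

variable {I : Type u} [Fintype I] [DecidableEq I]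

lemma evHom_ιFree (j : I) (r : R.obj.obj (op X)) :
    evHom X _ _ (ιFree (R := R) j) ((unitEv R X).symm r) = r • gen R X j := by
  have h : (unitEv R X).symm r = r • (unitEv R X).symm (1 : R.obj.obj (op X)) := by
    rw [← map_smul, smul_eq_mul, mul_one]
  rw [h, map_smul, gen_eq]
  rfl

include hX in
lemma exists_coord (j : I) : ∃ c : free (R := R) I ⟶ unit R,
    ∀ k, unitEv R X (evHom X _ _ c (gen R X k)) = if k = j then (1 : R.obj.obj (op X)) else 0 := by
  obtain ⟨c, hc⟩ := exists_free_hom hX (unit R)
    (fun k => (unitEv R X).symm (if k = j then (1 : R.obj.obj (op X)) else 0))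
  refine ⟨c, fun k => ?_⟩
  rw [evHom_apply, hc k, LinearEquiv.apply_symm_apply]

/-- coordinate morphisms. -/
noncomputable def coord (j : I) : free (R := R) I ⟶ unit R := (exists_coord hX j).choose

/-- coordinate linear forms. -/
noncomputable def coordL (j : I) :
    (free (R := R) I).val.obj (op X) →ₗ[R.obj.obj (op X)] R.obj.obj (op X) :=
  (unitEv R X).toLinearMap.comp (evHom X _ _ (coord (R := R) hX j))

lemma coordL_gen (j k : I) :
    coordL hX j (gen R X k) = if k = j then (1 : R.obj.obj (op X)) else 0 :=
  (exists_coord hX j).choose_spec k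

lemma evHom_coord_ιFree (j : I) (y : (free (R := R) I).val.obj (op X)) :
    evHom X _ _ (coord (R := R) hX j ≫ ιFree j) y = coordL hX j y • gen R X j := by
  rw [evHom_comp, LinearMap.comp_apply]
  have h : evHom X _ _ (coord (R := R) hX j) y = (unitEv R X).symm (coordL hX j y) := by
    rw [coordL, LinearMap.comp_apply, LinearEquiv.coe_coe, LinearEquiv.symm_apply_apply]
  rw [h, evHom_ιFree]

lemma sum_coord_ιFree : ∑ j : I, coord (R := R) hX j ≫ ιFree j = 𝟙 (free (R := R) I) := by
  apply free_hom_ext hX
  intro k
  change evHom X _ _ (∑ j : I, coord (R := R) hX j ≫ ιFree j) (gen R X k) =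
    evHom X _ _ (𝟙 _) (gen R X k)
  rw [map_sum, LinearMap.sum_apply, evHom_id, LinearMap.id_apply]
  have h : ∀ j : I, evHom X _ _ (coord (R := R) hX j ≫ ιFree j) (gen R X k) =
      if k = j then gen R X j else 0 := by
    intro j
    rw [evHom_coord_ιFree, coordL_gen]
    split_ifs <;> simp
  rw [Finset.sum_congr rfl (fun j _ => h j), Finset.sum_ite_eq, if_pos (Finset.mem_univ k)]

/-- the coordinates of a section of a finite free module. -/
noncomputable def coordMap :
    (free (R := R) I).val.obj (op X) →ₗ[R.obj.obj (op X)] (I → R.obj.obj (op X)) :=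
  LinearMap.pi (fun j => coordL hX j)

/-- the linear combination map. -/
noncomputable def combMap :
    (I → R.obj.obj (op X)) →ₗ[R.obj.obj (op X)] (free (R := R) I).val.obj (op X) :=
  Fintype.linearCombination (R.obj.obj (op X)) (gen R X)

lemma combMap_apply (r : I → R.obj.obj (op X)) :
    combMap (R := R) (X := X) r = ∑ j : I, r j • gen R X j :=
  Fintype.linearCombination_apply _ _ _

lemma combMap_coordMap (y : (free (R := R) I).val.obj (op X)) :
    combMap (I := I) (coordMap hX y) = y := by
  have h := congrArg (fun f => evHom X _ _ f y) (sum_coord_ιFree (R := R) (I := I) hX)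
  simp only [map_sum, LinearMap.sum_apply, evHom_id, LinearMap.id_apply] at h
  rw [combMap_apply]
  refine Eq.trans (Finset.sum_congr rfl (fun j _ => ?_)) h
  rw [evHom_coord_ιFree]
  rfl

lemma coordMap_combMap (r : I → R.obj.obj (op X)) :
    coordMap hX (combMap (R := R) (X := X) r) = r := by
  funext j
  change coordL hX j (combMap (R := R) (X := X) r) = r j
  rw [combMap_apply, map_sum]
  have h : ∀ k : I, coordL hX j (r k • gen R X k) = if k = j then r k else 0 := by
    intro k
    rw [map_smul, coordL_gen]
    split_ifs <;> simp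
  rw [Finset.sum_congr rfl (fun k _ => h k), Finset.sum_ite_eq', if_pos (Finset.mem_univ j)]

include hX in
lemma span_gen : Submodule.span (R.obj.obj (op X)) (Set.range (gen R X (I := I))) = ⊤ := by
  rw [eq_top_iff]
  intro y _
  rw [← combMap_coordMap hX y, combMap_apply]
  exact Submodule.sum_mem _ (fun j _ => Submodule.smul_mem _ _ (Submodule.subset_span ⟨j, rfl⟩))

end Finite

section Main

include hX in
lemma ev_injective (E E' : SheafOfModules.{u} R) (hE : DCoh.IsFinFreeSummandMod R E) :
    Function.Injective (fun φ : E ⟶ E' => φ.val.app (op X)) := by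
  obtain ⟨n, i, p, hip⟩ := hE
  intro φ₁ φ₂ h
  have h' : φ₁.val.app (op X) = φ₂.val.app (op X) := h
  have h1 : p ≫ φ₁ = p ≫ φ₂ := by
    apply free_hom_ext hX
    intro k
    change φ₁.val.app (op X) (p.val.app (op X) (gen R X k)) =
      φ₂.val.app (op X) (p.val.app (op X) (gen R X k))
    rw [h']
  calc φ₁ = (i ≫ p) ≫ φ₁ := by rw [hip, Category.id_comp]
    _ = (i ≫ p) ≫ φ₂ := by rw [Category.assoc, h1, ← Category.assoc]
    _ = φ₂ := by rw [hip, Category.id_comp]

include hX in
lemma ev_surjective (E E' : SheafOfModules.{u} R) (hE : DCoh.IsFinFreeSummandMod R E) :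
    Function.Surjective (fun φ : E ⟶ E' => φ.val.app (op X)) := by
  obtain ⟨n, i, p, hip⟩ := hE
  intro ψ
  obtain ⟨g, hg⟩ := exists_free_hom hX E' (fun k => ψ (p.val.app (op X) (gen R X k)))
  refine ⟨i ≫ g, ?_⟩
  have h1 : evHom X _ _ g = ψ.hom.comp (evHom X _ _ p) := by
    apply LinearMap.ext_on_range (span_gen hX)
    intro k
    exact hg k
  apply ModuleCat.hom_ext
  change evHom X _ _ (i ≫ g) = ψ.hom
  rw [evHom_comp, h1, LinearMap.comp_assoc, ← evHom_comp, hip, evHom_id, LinearMap.comp_id]

include hX in
lemma finite_projective (E : SheafOfModules.{u} R) (hE : DCoh.IsFinFreeSummandMod R E) :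
    Module.Finite (R.obj.obj (op X)) (E.val.obj (op X)) ∧
      Module.Projective (R.obj.obj (op X)) (E.val.obj (op X)) := by
  obtain ⟨n, i, p, hip⟩ := hE
  have hba : ((evHom X _ _ p).comp (combMap (R := R) (X := X))).comp
      ((coordMap hX).comp (evHom X _ _ i)) = LinearMap.id := by
    ext x
    change evHom X _ _ p (combMap (coordMap hX (evHom X _ _ i x))) = x
    rw [combMap_coordMap]
    change evHom X _ _ (i ≫ p) x = x
    rw [hip]
    rfl
  constructor
  · exact Module.Finite.of_surjective ((evHom X _ _ p).comp (combMap (R := R) (X := X)))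
      (fun x => ⟨((coordMap hX).comp (evHom X _ _ i)) x, LinearMap.congr_fun hba x⟩)
  · exact Module.Projective.of_split _ _ hba

include hX in
lemma exists_of_finite_projective (M : ModuleCat.{u} (R.obj.obj (op X)))
    (hfin : Module.Finite (R.obj.obj (op X)) M) (hproj : Module.Projective (R.obj.obj (op X)) M) :
    ∃ E : SheafOfModules.{u} R, DCoh.IsFinFreeSummandMod R E ∧
      Nonempty (E.val.obj (op X) ≅ M) := by
  obtain ⟨n, f, hf⟩ := Module.Finite.exists_fin' (R.obj.obj (op X)) M
  obtain ⟨t, ht⟩ : ∃ t : (ULift.{u} (Fin n) → R.obj.obj (op X)) →ₗ[R.obj.obj (op X)] M,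
      Function.Surjective t :=
    ⟨f.comp (LinearEquiv.funCongrLeft (R.obj.obj (op X)) (R.obj.obj (op X))
      Equiv.ulift.symm).toLinearMap,
      hf.comp (LinearEquiv.funCongrLeft (R.obj.obj (op X)) (R.obj.obj (op X))
        Equiv.ulift.symm).surjective⟩
  obtain ⟨s, hs⟩ := Module.projective_lifting_property t LinearMap.id ht
  have hs' : ∀ m, t (s m) = m := fun m => LinearMap.congr_fun hs m
  have hfree : DCoh.IsFinFreeSummandMod R (free (R := R) (ULift.{u} (Fin n))) :=
    ⟨n, 𝟙 _, 𝟙 _, Category.id_comp _⟩
  obtain ⟨ε, hε⟩ := ev_surjective hX (free (R := R) (ULift.{u} (Fin n)))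
    (free (R := R) (ULift.{u} (Fin n))) hfree
    (ModuleCat.ofHom ((combMap (R := R) (X := X)).comp (s.comp (t.comp (coordMap hX)))))
  have hεev : ∀ y, evHom X _ _ ε y = combMap (R := R) (X := X) (s (t (coordMap hX y))) := by
    intro y
    have h2 := congrArg (fun m : (free (R := R) (ULift.{u} (Fin n))).val.obj (op X) ⟶
      (free (R := R) (ULift.{u} (Fin n))).val.obj (op X) => m.hom y) hε
    exact h2
  have hidem : ε ≫ ε = ε := by
    apply ev_injective hX _ _ hfree
    apply ModuleCat.hom_ext
    change evHom X _ _ (ε ≫ ε) = evHom X _ _ ε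
    ext y
    rw [evHom_comp, LinearMap.comp_apply, hεev, hεev, coordMap_combMap, hs']
  obtain ⟨E, i, p, hip, hpi⟩ :=
    (inferInstance : IsIdempotentComplete (SheafOfModules.{u} R)).idempotents_split _ ε hidem
  refine ⟨E, ⟨n, i, p, hip⟩, ⟨(LinearEquiv.ofLinear
    (t.comp ((coordMap hX).comp (evHom X _ _ i)))
    ((evHom X _ _ p).comp ((combMap (R := R) (X := X)).comp s)) ?_ ?_).toModuleIso⟩⟩
  · ext m
    change t (coordMap hX (evHom X _ _ i (evHom X _ _ p (combMap (s m))))) = m
    have h3 : evHom X _ _ i (evHom X _ _ p (combMap (R := R) (X := X) (s m))) =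
        evHom X _ _ ε (combMap (R := R) (X := X) (s m)) := by
      rw [← hpi]
      rfl
    rw [h3, hεev, coordMap_combMap, coordMap_combMap, hs', hs']
  · ext x
    change evHom X _ _ p (combMap (s (t (coordMap hX (evHom X _ _ i x))))) = x
    rw [← hεev, ← hpi]
    change evHom X _ _ (i ≫ (p ≫ i) ≫ p) x = x
    rw [Category.assoc, hip, Category.comp_id, hip]
    rfl

end Main

end Groth.Agent.LD.MS.FinProj
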