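import Mathlib
import Groth.Prelude.Def_ModSite
import Groth.Agent.Lib.Lead.MS.Flat2

set_option autoImplicit false
universe u
open CategoryTheory Opposite MonoidalCategory Limits

namespace Groth.Agent.LD.MS

variable {C : Type u} [SmallCategory C] (R : Cᵒᵖ ⥤ CommRingCat.{u})

theorem flat_free_obj' (T : Cᵒᵖ ⥤ Type u) (X : Cᵒᵖ) :
    Module.Flat (R.obj X)
      (((PresheafOfModules.free (R ⋙ forget₂ CommRingCat.{u} RingCat.{u})).obj T).obj X) := by
  change Module.Flat (R.obj X) (T.obj X →₀ R.obj X)
  infer_instance

theorem epi_free_counit' (G : PresheafOfModules.{u} (R ⋙ forget₂ CommRingCat.{u} RingCat.{u})) :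
    Epi ((PresheafOfModules.freeAdjunction (R ⋙ forget₂ CommRingCat.{u} RingCat.{u})).counit.app G) := by
  apply PresheafOfModules.epi_of_surjective
  intro X g
  refine ⟨ModuleCat.freeMk (show (G.presheaf ⋙ forget _).obj X from g), ?_⟩
  change (ModuleCat.freeDesc _) (ModuleCat.freeMk _) = g
  rw [ModuleCat.freeDesc_apply]
  rfl

/-- presheaf version: tensoring a short exact sequence with flat cokernel stays short exact. -/
theorem pshortExact_map_tensorRight_of_flat
    (S : ShortComplex (PresheafOfModules.{u} (R ⋙ forget₂ CommRingCat.{u} RingCat.{u})))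
    (hS : S.ShortExact) (hF : PreservesFiniteLimits (tensorRight S.X₃))
    (G : PresheafOfModules.{u} (R ⋙ forget₂ CommRingCat.{u} RingCat.{u}))
    [(tensorRight G).PreservesZeroMorphisms] :
    (S.map (tensorRight G)).ShortExact := by
  let R' := R ⋙ forget₂ CommRingCat.{u} RingCat.{u}
  let T : Cᵒᵖ ⥤ Type u := (PresheafOfModules.toPresheaf R' ⋙
    (Functor.whiskeringRight _ _ _).obj (forget Ab)).obj G
  let P := (PresheafOfModules.free R').obj T
  let p : P ⟶ G := (PresheafOfModules.freeAdjunction R').counit.app G
  have hp : Epi p := epi_free_counit' R G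
  have hP : PreservesFiniteLimits (tensorRight P) :=
    preservesFiniteLimits_tensorRight_of_flat R P (flat_free_obj' R T)
  have hl : ∀ X : PresheafOfModules.{u} R', PreservesFiniteColimits (tensorLeft X) := fun X =>
    PreservesColimitsOfSize.preservesFiniteColimits.{u, u} _
  have hr : ∀ X : PresheafOfModules.{u} R', PreservesFiniteColimits (tensorRight X) := fun X =>
    PreservesColimitsOfSize.preservesFiniteColimits.{u, u} _
  have h3 : (tensorLeft S.X₃).PreservesMonomorphisms := by
    have : PreservesFiniteLimits (tensorLeft S.X₃) :=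
      preservesFiniteLimits_of_natIso (BraidedCategory.tensorLeftIsoTensorRight S.X₃).symm
    infer_instance
  have := hS.epi_g
  have := hr G
  have h1 := exact_map_of_rightExact (tensorRight G) S hS.exact
  have h2 : Mono ((tensorRight G).map S.f) :=
    mono_map_flip_of_flat (curriedTensor (PresheafOfModules.{u} R')) hl hr S hS G h3 P p
      (by infer_instance)
  exact { exact := h1.1, mono_f := h2, epi_g := h1.2 }

end Groth.Agent.LD.MS
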