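import Groth.Agent.Lib.Lead.MS.Flat2
import Groth.Agent.Lib.Lead.KT.LocalExt
import Groth.Agent.Lib.Lead.RSp.Free

/-! # Sections of the tensor product of sheaves of modules: pure tensors, locally every section
is a finite sum of pure tensors. -/

set_option autoImplicit false
universe u
open CategoryTheory Opposite MonoidalCategory Limits TensorProduct

namespace Groth.Agent.LD.MS

variable {C : Type u} [SmallCategory C] {J : GrothendieckTopology C} {O : Sheaf J CommRingCat.{u}}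

/-- underlying presheaf of modules. -/
abbrev pv (P : ModSite.Mod O) : PMod O := P.val

/-- underlying morphism of presheaves of modules. -/
abbrev pvMap {P P' : ModSite.Mod O} (f : P ⟶ P') : pv P ⟶ pv P' := f.val

/-- the sheaf tensor product. -/
noncomputable abbrev tens (P Q : ModSite.Mod O) : ModSite.Mod O := (shf O).obj (pv P ⊗ pv Q)

/-- the sheafification unit of the presheaf tensor product. -/
noncomputable abbrev ηT (P Q : ModSite.Mod O) : (pv P ⊗ pv Q) ⟶ pv (tens P Q) :=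
  (sadj' O).unit.app (pv P ⊗ pv Q)

/-- pure tensors in the sheaf tensor product. -/
noncomputable def τ (P Q : ModSite.Mod O) {V : C} (p : P.val.obj (op V)) (q : Q.val.obj (op V)) :
    (tens P Q).val.obj (op V) :=
  ap (ηT P Q) (tm (pv P) (pv Q) p q)

lemma ap_comp' {M M' M'' : PMod O} (f : M ⟶ M') (g : M' ⟶ M'') {X : Cᵒᵖ} (m : M.obj X) :
    ap (f ≫ g) m = ap g (ap f m) := rfl

lemma ap_whiskerRight_tm {M M' : PMod O} (f : M ⟶ M') (N : PMod O) {X : Cᵒᵖ} (m : M.obj X)
    (n : N.obj X) : ap (f ▷ N) (tm M N m n) = tm M' N (ap f m) n := rfl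

section bilin
variable (P Q : ModSite.Mod O) {V : C}

lemma τ_add_left (p p' : P.val.obj (op V)) (q : Q.val.obj (op V)) :
    τ P Q (p + p') q = τ P Q p q + τ P Q p' q := by
  have h : tm (pv P) (pv Q) (p + p') q = tm (pv P) (pv Q) p q + tm (pv P) (pv Q) p' q :=
    TensorProduct.add_tmul p p' q
  unfold τ
  rw [h, ap_add]

lemma τ_add_right (p : P.val.obj (op V)) (q q' : Q.val.obj (op V)) :
    τ P Q p (q + q') = τ P Q p q + τ P Q p q' := by
  have h : tm (pv P) (pv Q) p (q + q') = tm (pv P) (pv Q) p q + tm (pv P) (pv Q) p q' :=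
    TensorProduct.tmul_add p q q'
  unfold τ
  rw [h, ap_add]

/-- `τ` in the first variable, additively. -/
noncomputable def τL (q : Q.val.obj (op V)) : P.val.obj (op V) →+ (tens P Q).val.obj (op V) :=
  AddMonoidHom.mk' (fun p => τ P Q p q) (fun p p' => τ_add_left P Q p p' q)

/-- `τ` in the second variable, additively. -/
noncomputable def τR (p : P.val.obj (op V)) : Q.val.obj (op V) →+ (tens P Q).val.obj (op V) :=
  AddMonoidHom.mk' (fun q => τ P Q p q) (fun q q' => τ_add_right P Q p q q')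

lemma τ_zero_left (q : Q.val.obj (op V)) : τ P Q (0 : P.val.obj (op V)) q = 0 :=
  map_zero (τL P Q q)

lemma τ_zero_right (p : P.val.obj (op V)) : τ P Q p (0 : Q.val.obj (op V)) = 0 :=
  map_zero (τR P Q p)

lemma τ_sum_left {ι : Type*} (s : Finset ι) (p : ι → P.val.obj (op V)) (q : Q.val.obj (op V)) :
    τ P Q (∑ i ∈ s, p i) q = ∑ i ∈ s, τ P Q (p i) q :=
  map_sum (τL P Q q) p s

lemma τ_sum_right {ι : Type*} (s : Finset ι) (p : P.val.obj (op V)) (q : ι → Q.val.obj (op V)) :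
    τ P Q p (∑ i ∈ s, q i) = ∑ i ∈ s, τ P Q p (q i) :=
  map_sum (τR P Q p) q s

lemma τ_smul_left (a : (ModSite.ringSh O).obj.obj (op V)) (p : P.val.obj (op V))
    (q : Q.val.obj (op V)) : τ P Q (a • p) q = a • τ P Q p q := by
  let a' : O.obj.obj (op V) := a
  let p' : (pv P).obj (op V) := p
  let q' : (pv Q).obj (op V) := q
  have h : tm (pv P) (pv Q) (a • p) q = a' • tm (pv P) (pv Q) p q :=
    (TensorProduct.smul_tmul' (R := O.obj.obj (op V)) a' p' q').symm
  unfold τ
  rw [h]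
  exact ap_smul _ _ _

lemma τ_smul_right (a : (ModSite.ringSh O).obj.obj (op V)) (p : P.val.obj (op V))
    (q : Q.val.obj (op V)) : τ P Q p (a • q) = a • τ P Q p q := by
  let a' : O.obj.obj (op V) := a
  let p' : (pv P).obj (op V) := p
  let q' : (pv Q).obj (op V) := q
  have h : tm (pv P) (pv Q) p (a • q) = a' • tm (pv P) (pv Q) p q :=
    TensorProduct.tmul_smul (R := O.obj.obj (op V)) a' p' q'
  unfold τ
  rw [h]
  exact ap_smul _ _ _

end bilin

/-- functoriality of pure tensors in the first variable. -/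
lemma tensMap_τ {P P' : ModSite.Mod O} (f : P ⟶ P') (Q : ModSite.Mod O) {V : C}
    (p : P.val.obj (op V)) (q : Q.val.obj (op V)) :
    (((ModSite.tensorBi O).flip.obj Q).map f).val.app (op V) (τ P Q p q) =
      τ P' Q (f.val.app (op V) p) q := by
  have hn := (sadj' O).unit.naturality (pvMap f ▷ pv Q)
  have h1 := congrArg (fun g => ap g (tm (pv P) (pv Q) p q)) hn
  exact h1.symm

/-- restriction of pure tensors. -/
lemma rs_τ (P Q : ModSite.Mod O) {V W : C} (g : W ⟶ V) (p : P.val.obj (op V))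
    (q : Q.val.obj (op V)) :
    RSp.rs (tens P Q) g (τ P Q p q) = τ P Q (RSp.rs P g p) (RSp.rs Q g q) := by
  have h := ap_res (ηT P Q) g.op (tm (pv P) (pv Q) p q)
  rw [res_tm] at h
  exact h.symm

/-- locally every section of the tensor product is a finite sum of pure tensors. -/
theorem exists_local_pure (P Q : ModSite.Mod O) {U : C} (x : (tens P Q).val.obj (op U)) :
    ∃ S ∈ J U, ∀ ⦃V : C⦄ (g : V ⟶ U), S g →
      ∃ (r : ℕ) (p : Fin r → P.val.obj (op V)) (q : Fin r → Q.val.obj (op V)),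
        RSp.rs (tens P Q) g x = ∑ k, τ P Q (p k) (q k) := by
  have hW := W_unit (pv P ⊗ pv Q)
  rw [W_iff_loc] at hW
  obtain ⟨S, hS, hS'⟩ := hW.2 (X := op U) x
  refine ⟨S, hS, fun V g hg => ?_⟩
  obtain ⟨y, hy⟩ := hS' g hg
  obtain ⟨s, hs⟩ := TensorProduct.exists_finset (toTP _ _ y)
  let e := s.equivFin
  refine ⟨s.card, fun k => (e.symm k).1.1, fun k => (e.symm k).1.2, ?_⟩
  have h1 : (∑ k : Fin s.card, ((e.symm k).1.1 ⊗ₜ[O.obj.obj (op V)] (e.symm k).1.2)) =
      ∑ i : s, (i.1.1 ⊗ₜ[O.obj.obj (op V)] i.1.2) :=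
    Equiv.sum_comp e.symm (fun i : s => i.1.1 ⊗ₜ[O.obj.obj (op V)] i.1.2)
  rw [Finset.sum_coe_sort s (fun i => i.1 ⊗ₜ[O.obj.obj (op V)] i.2)] at h1
  have h2 : y = ∑ k : Fin s.card, tm (pv P) (pv Q) ((e.symm k).1.1) ((e.symm k).1.2) :=
    hs.trans h1.symm
  have h3 : ap (ηT P Q) y = ∑ k : Fin s.card, τ P Q ((e.symm k).1.1) ((e.symm k).1.2) := by
    rw [h2, ap_sum]
    rfl
  exact hy.symm.trans h3

/-- the unit isomorphism on pure tensors. -/
lemma tensorUnitIso_τ (Q : ModSite.Mod O) {V : C} (a : (ModSite.ringSh O).obj.obj (op V))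
    (q : Q.val.obj (op V)) :
    (KT.tensorUnitIso O Q).hom.val.app (op V) (τ (ModSite.unit O) Q a q) = a • q := by
  have hn := (sadj' O).unit.naturality (λ_ (pv Q)).hom
  have ht := (sadj' O).right_triangle_components Q
  have h1 : ap (pvMap ((shf O).map (λ_ (pv Q)).hom))
      (ap (ηT (ModSite.unit O) Q) (tm (pv (ModSite.unit O)) (pv Q) a q)) =
      ap ((sadj' O).unit.app (pv Q)) (ap (λ_ (pv Q)).hom (tm (pv (ModSite.unit O)) (pv Q) a q)) :=
    (congrArg (fun g => ap g (tm (pv (ModSite.unit O)) (pv Q) a q)) hn).symm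
  have h2 : ap (pvMap ((sadj' O).counit.app Q)) (ap ((sadj' O).unit.app (pv Q)) (a • q)) = a • q :=
    congrArg (fun g => ap g (a • q)) ht
  have h3 : ap (λ_ (pv Q)).hom (tm (pv (ModSite.unit O)) (pv Q) a q) = a • q :=
    ModuleCat.MonoidalCategory.leftUnitor_hom_apply _ _
  rw [h3] at h1
  have h4 : (KT.tensorUnitIso O Q).hom.val.app (op V) (τ (ModSite.unit O) Q a q) =
      ap (pvMap ((sadj' O).counit.app Q)) (ap (pvMap ((shf O).map (λ_ (pv Q)).hom))
        (ap (ηT (ModSite.unit O) Q) (tm (pv (ModSite.unit O)) (pv Q) a q))) := rfl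
  rw [h4, h1, h2]

end Groth.Agent.LD.MS
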